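/-
Normal 2-subgroups of the stabiliser in `Co0` of the vector (4, 4, 0²²) and of the monomial group.
-/
import Cfsg.Agent.Lib.Leech.Simple
import Cfsg.Agent.Lib.Leech.ModTwo
import Cfsg.Prelude.Def_Spor_Conway

set_option autoImplicit false

namespace Cfsg.Agent.MonsterType

open Cfsg Finset Leech

/-- The stabiliser of the norm 32 vector (4, 4, 0²²). -/
def stabU : Subgroup Co0 := MulAction.stabilizer Co0 Spor.leechU

/-- The sign changes fixing (4, 4, 0²²). -/
def signU : Subgroup Co0 := stabU ⊓ signGrp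

theorem mem_stabU {g : Co0} : g ∈ stabU ↔ g • Spor.leechU = Spor.leechU := Iff.rfl

/-- The two points of the support of (4, 4, 0²²). -/
def InPair (p : GolayPt) : Prop := p = none ∨ p = some 0

theorem leechU_val (p : GolayPt) :
    (Spor.leechU : GolayPt → ℤ) p = if p = none ∨ p = some 0 then 4 else 0 := rfl

theorem signElt_mem_stabU {c : GolayPt → ZMod 2} (hc : c ∈ golayCode) :
    signElt c hc ∈ stabU ↔ c none = 0 ∧ c (some 0) = 0 := by
  rw [mem_stabU, Subtype.ext_iff, signElt_smul]
  constructor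
  · intro h
    refine ⟨?_, ?_⟩
    · have h1 := congrFun h none
      simp only [signFun, mem_supp, leechU_val, true_or, if_true] at h1
      rcases zmod2_cases (c none) with e | e
      · exact e
      · rw [if_pos e] at h1; norm_num at h1
    · have h1 := congrFun h (some 0)
      simp only [signFun, mem_supp, leechU_val, or_true, if_true] at h1
      rcases zmod2_cases (c (some 0)) with e | e
      · exact e
      · rw [if_pos e] at h1; norm_num at h1
  · rintro ⟨h1, h2⟩
    funext i
    simp only [signFun, mem_supp]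
    split_ifs with hi
    · have : ¬ (i = none ∨ i = some 0) := by
        rintro (rfl | rfl)
        · rw [h1] at hi; exact zero_ne_one hi
        · rw [h2] at hi; exact zero_ne_one hi
      rw [leechU_val, if_neg this, neg_zero]
    · rfl

theorem signElt_eight {c : GolayPt → ZMod 2} (hc : c ∈ golayCode) (i : GolayPt) :
    signElt c hc • eight i = if c i = 1 then -eight i else eight i := by
  apply Subtype.ext
  rw [signElt_smul, eight_val]
  funext k
  simp only [signFun, mem_supp]
  by_cases hki : k = i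
  · subst hki
    split_ifs <;> simp [eight_val]
  · rw [Pi.single_eq_of_ne hki]
    split_ifs <;> simp [eight_val, Pi.single_eq_of_ne hki]

theorem card_signGrp_le : Nat.card signGrp ≤ 4096 := by
  let f : golayCode → signGrp := fun c => ⟨signElt c c.2, c, c.2, rfl⟩
  have hf : Function.Surjective f := by
    rintro ⟨_, c, hc, rfl⟩
    exact ⟨⟨c, hc⟩, rfl⟩
  exact (Nat.card_le_card_of_surjective f hf).trans Leech.card_code.le

theorem signElt_inj {c d : GolayPt → ZMod 2} (hc : c ∈ golayCode) (hd : d ∈ golayCode)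
    (h : signElt c hc = signElt d hd) : c = d := by
  funext i
  have h1 : ((signElt c hc • eight i : leechLattice) : GolayPt → ℤ) i =
      ((signElt d hd • eight i : leechLattice) : GolayPt → ℤ) i := by rw [h]
  rw [signElt_eight, signElt_eight] at h1
  rcases zmod2_cases (c i) with a | a <;> rcases zmod2_cases (d i) with b | b <;>
    simp [a, b, eight_val] at h1 ⊢

theorem signElt_sq {g : Co0} (hg : g ∈ signGrp) : g * g = 1 := by
  obtain ⟨c, hc, rfl⟩ := hg
  refine eq_of_smul_eq_smul (α := leechLattice) fun v => Subtype.ext ?_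
  rw [mul_smul, signElt_smul, signElt_smul, signFun_signFun, one_smul]

theorem isPGroup_signGrp : IsPGroup 2 signGrp := fun g =>
  ⟨1, Subtype.ext (by rw [pow_one, pow_two]; exact signElt_sq g.2)⟩

theorem card_signU_le : Nat.card signU ≤ 1024 := by
  classical
  have hk : ∀ k : ZMod 2 × ZMod 2, ∃ w ∈ golayCode, w none = k.1 ∧ w (some 0) = k.2 := by
    intro k
    obtain ⟨w, hw, he⟩ := code_interp {none, some 0} (card_le_two.trans (by norm_num))
      (fun p => if p = none then k.1 else k.2)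
    exact ⟨w, hw, by simpa using he none (by simp), by simpa using he (some 0) (by simp)⟩
  choose w hw hw1 hw2 using hk
  have hc : ∀ g : signU, ∃ c : GolayPt → ZMod 2, ∃ hc : c ∈ golayCode,
      (g : Co0) = signElt c hc ∧ c none = 0 ∧ c (some 0) = 0 := by
    rintro ⟨g, hgu, c, hc, rfl⟩
    exact ⟨c, hc, rfl, (signElt_mem_stabU hc).1 hgu⟩
  choose c hcC hce hc1 hc2 using hc
  have h := Nat.card_le_card_of_injective
    (fun x : signU × (ZMod 2 × ZMod 2) => (⟨c x.1 + w x.2, add_mem (hcC x.1) (hw x.2)⟩ : golayCode))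
    (by
      rintro ⟨g, k⟩ ⟨g', k'⟩ h
      have h' : c g + w k = c g' + w k' := congrArg Subtype.val h
      have e1 := congrFun h' none
      have e2 := congrFun h' (some 0)
      simp only [Pi.add_apply, hc1, hc2, hw1, hw2, zero_add] at e1 e2
      obtain rfl : k = k' := Prod.ext e1 e2
      have e3 : c g = c g' := add_right_cancel h'
      refine Prod.ext (Subtype.ext ?_) rfl
      show (g : Co0) = g'
      rw [hce g, hce g']
      exact signElt_congr _ _ e3)
  rw [Nat.card_prod, Nat.card_prod, Nat.card_zmod, show Nat.card golayCode = 4096 from Leech.card_code] at h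
  omega

/-- No two points are exchanged by a nontrivial element of `M24` fixing all others. -/
theorem not_transposition {n : Equiv.Perm GolayPt} (hn : n ∈ M24) {p q : GolayPt} (hpq : p ≠ q)
    (hnp : n p = q) (hnq : n q = p) (hfix : ∀ i, i ≠ p → i ≠ q → n i = i) : False := by
  classical
  obtain ⟨c, hc, he⟩ := code_interp {p, q} (card_le_two.trans (by norm_num))
    (fun i => if i = p then 1 else 0)
  have hp : c p = 1 := by simpa using he p (by simp)
  have hq : c q = 0 := by simpa [hpq.symm] using he q (by simp)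
  have hm := code_doubly_even (add_mem hc (comp_mem_code hn hc))
  have hs : support₂ (c + c ∘ n) = {p, q} := by
    ext i
    simp only [mem_supp, Pi.add_apply, Function.comp_apply, mem_insert, mem_singleton]
    by_cases h1 : i = p
    · subst h1; simp [hnp, hp, hq]
    by_cases h2 : i = q
    · subst h2; simp [hnq, hp, hq]
    rw [hfix i h1 h2]
    simp only [h1, h2, or_self, iff_false]
    rcases zmod2_cases (c i) with e | e <;> rw [e] <;> decide
  rw [hs, card_pair hpq] at hm
  omega

/-- A 2-subgroup of `M24` preserving {∞, 0} and normalised by `M22` is trivial. -/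
theorem pair_two_group_trivial {N : Subgroup M24} (h2 : IsPGroup 2 N)
    (hpair : ∀ n ∈ N, InPair ((n : Equiv.Perm GolayPt) none) ∧
      InPair ((n : Equiv.Perm GolayPt) (some 0)))
    (hnorm : ∀ m : M24, (m : Equiv.Perm GolayPt) ∈ Spor.M22 → ∀ n ∈ N, m * n * m⁻¹ ∈ N) :
    N = ⊥ := by
  classical
  set M : Subgroup M24 := Spor.M22.subgroupOf M24 with hM
  have hle : Spor.M22 ≤ M24 := fun g hg => (Mathieu.mem_M22_iff.1 hg).1
  have hsimp : IsSimpleGroup M :=
    have := Mathieu.isSimple_M22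
    MulEquiv.isSimpleGroup (Subgroup.subgroupOfEquivOfLe hle)
  have hMN : ∀ n ∈ N, n ∈ M → n = 1 := by
    have hnormal : (N.subgroupOf M).Normal := ⟨fun n hn m => hnorm m.1 m.2 n.1 hn⟩
    rcases hsimp.eq_bot_or_eq_top_of_normal _ hnormal with h | h
    · intro n hn hnM
      have : (⟨n, hnM⟩ : M) ∈ N.subgroupOf M := hn
      rw [h, Subgroup.mem_bot] at this
      exact congrArg Subtype.val this
    · exfalso
      rw [Subgroup.subgroupOf_eq_top] at h
      have hM2 := h2.to_le h
      obtain ⟨k, hk⟩ := IsPGroup.iff_card.1 hM2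
      rw [Nat.card_congr (Subgroup.subgroupOfEquivOfLe hle).toEquiv, Mathieu.card_M22] at hk
      have h11 : 11 ∣ 2 ^ k := ⟨40320, by omega⟩
      exact absurd (Nat.prime_eleven.dvd_of_dvd_pow h11) (by norm_num)
  rw [Subgroup.eq_bot_iff_forall]
  intro n hn
  obtain ⟨hp0, hp1⟩ := hpair n hn
  by_cases hfix : (n : Equiv.Perm GolayPt) none = none
  · refine hMN n hn (Mathieu.mem_M22_iff.2 ⟨n.2, hfix, hp1.resolve_left fun e => ?_⟩)
    exact Option.some_ne_none _ ((n : Equiv.Perm GolayPt).injective (e.trans hfix.symm))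
  exfalso
  have hn0 : (n : Equiv.Perm GolayPt) none = some 0 := hp0.resolve_left hfix
  have hn1 : (n : Equiv.Perm GolayPt) (some 0) = none := hp1.resolve_right fun e =>
    Option.some_ne_none _ ((n : Equiv.Perm GolayPt).injective (e.trans hn0.symm))
  refine not_transposition n.2 (Option.some_ne_none _).symm hn0 hn1 fun i hi0 hi1 => ?_
  by_contra hne
  set j := (n : Equiv.Perm GolayPt) i with hj
  have hj0 : j ≠ none := fun e => hi1 ((n : Equiv.Perm GolayPt).injective (e.trans hn1.symm))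
  have hj1 : j ≠ some 0 := fun e => hi0 ((n : Equiv.Perm GolayPt).injective (e.trans hn0.symm))
  obtain ⟨k, hk⟩ : (univ \ ({none, some 0, i, j} : Finset GolayPt)).Nonempty := by
    apply card_pos.1
    rw [card_sdiff_of_subset (subset_univ _), card_univ, show Fintype.card GolayPt = 24 from rfl]
    have := card_le_four (a := (none : GolayPt)) (b := some 0) (c := i) (d := j)
    omega
  simp only [mem_sdiff, mem_univ, true_and, mem_insert, mem_singleton, not_or] at hk
  obtain ⟨m, hm, hmx⟩ := Mathieu.M22_exists_map (k := 2) (by norm_num)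
    ⟨![i, j], by intro a b; fin_cases a <;> fin_cases b <;> simp [Ne.symm hne, hne]⟩
    ⟨![i, k], by intro a b; fin_cases a <;> fin_cases b <;> simp [hk.2.2.1, Ne.symm hk.2.2.1]⟩
    (fun a => by fin_cases a; exacts [⟨hi0, hi1⟩, ⟨hj0, hj1⟩])
    (fun a => by fin_cases a; exacts [⟨hi0, hi1⟩, ⟨hk.1, hk.2.1⟩])
  have hmi : m i = i := hmx 0
  have hmj : m j = k := hmx 1
  let m' : M24 := ⟨m, hle hm⟩
  have hc : m' * n * m'⁻¹ * n⁻¹ = 1 := by
    refine hMN _ (mul_mem (hnorm m' hm n hn) (inv_mem hn)) ?_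
    show m * (n : Equiv.Perm GolayPt) * m⁻¹ * (n : Equiv.Perm GolayPt)⁻¹ ∈ Spor.M22
    obtain ⟨-, hm0, hm1⟩ := Mathieu.mem_M22_iff.1 hm
    have e : ∀ p, InPair p → m p = p ∧ m⁻¹ p = p := by
      rintro p (rfl | rfl)
      · exact ⟨hm0, Equiv.Perm.inv_eq_iff_eq.2 hm0.symm⟩
      · exact ⟨hm1, Equiv.Perm.inv_eq_iff_eq.2 hm1.symm⟩
    refine Mathieu.mem_M22_iff.2 ⟨mul_mem (mul_mem (mul_mem (hle hm) n.2) (inv_mem (hle hm)))
      (inv_mem n.2), ?_, ?_⟩
    · rw [Equiv.Perm.mul_apply, Equiv.Perm.inv_eq_iff_eq.2 hn1.symm, Equiv.Perm.mul_apply,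
        Equiv.Perm.mul_apply, (e _ (Or.inr rfl)).2, hn1, (e _ (Or.inl rfl)).1]
    · rw [Equiv.Perm.mul_apply, Equiv.Perm.inv_eq_iff_eq.2 hn0.symm, Equiv.Perm.mul_apply,
        Equiv.Perm.mul_apply, (e _ (Or.inl rfl)).2, hn0, (e _ (Or.inr rfl)).1]
  rw [mul_inv_eq_one, mul_inv_eq_iff_eq_mul] at hc
  have := congrArg (fun x : M24 => (x : Equiv.Perm GolayPt) i) hc
  simp only [Subgroup.coe_mul, Equiv.Perm.mul_apply] at this
  change m ((n : Equiv.Perm GolayPt) i) = (n : Equiv.Perm GolayPt) (m i) at this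
  rw [hmi, ← hj, hmj] at this
  exact hk.2.2.2 this

theorem le_normalizer_signGrp {F : Subgroup Co0} (h : F ≤ monGrp) :
    F ≤ Subgroup.normalizer (signGrp : Set Co0) := fun g hg =>
  Subgroup.mem_normalizer_iff.2 fun a => ⟨fun ha => mono_conj_signGrp (h hg) ha, fun ha => by
    have := mono_conj_signGrp (inv_mem (h hg)) ha
    simpa [mul_assoc] using this⟩

theorem permHom_injective : Function.Injective permHom := by
  intro σ τ h
  refine Subtype.ext (Equiv.symm_bijective.injective (Equiv.ext fun k => ?_))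
  by_contra hne
  have h1 : ((permHom σ • eight ((σ : Equiv.Perm GolayPt).symm k) : leechLattice) : GolayPt → ℤ) k =
      ((permHom τ • eight ((σ : Equiv.Perm GolayPt).symm k) : leechLattice) : GolayPt → ℤ) k := by
    rw [h]
  change (eight _ : GolayPt → ℤ) ((σ : Equiv.Perm GolayPt).symm k) =
    (eight _ : GolayPt → ℤ) ((τ : Equiv.Perm GolayPt).symm k) at h1
  rw [eight_val, Pi.single_eq_same, Pi.single_eq_of_ne (Ne.symm hne)] at h1
  norm_num at h1

theorem permHom_leechU {m : M24} (hm : (m : Equiv.Perm GolayPt) ∈ Spor.M22) :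
    permHom m ∈ stabU := by
  obtain ⟨-, h0, h1⟩ := Mathieu.mem_M22_iff.1 hm
  rw [mem_stabU, Subtype.ext_iff]
  show ((permElt m m.2 • Spor.leechU : leechLattice) : GolayPt → ℤ) = _
  rw [permElt_smul]
  funext i
  show (if (m : Equiv.Perm GolayPt).symm i = none ∨ (m : Equiv.Perm GolayPt).symm i = some 0 then (4:ℤ) else 0) = _
  rw [leechU_val]
  refine if_congr ?_ rfl rfl
  rw [Equiv.symm_apply_eq, Equiv.symm_apply_eq, h0, h1]

theorem permHom_mem_monGrp (m : M24) : permHom m ∈ monGrp := by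
  refine mem_monGrp.2 ?_
  have : permHom m = monoElt (m, 0) := by
    refine eq_of_smul_eq_smul (α := leechLattice) fun v => Subtype.ext ?_
    show ((permElt m m.2 • v : leechLattice) : GolayPt → ℤ) = _
    rw [monoElt_smul, permElt_smul]
    funext k
    simp [signedPerm, mem_supp]
  rw [this]
  exact monoElt_fixesStd _

theorem mem_sup_signGrp {F : Subgroup Co0} (hF : F ≤ monGrp) {x : Co0} (hx : x ∈ F ⊔ signGrp) :
    ∃ f ∈ F, ∃ s ∈ signGrp, x = f * s := by
  rw [← SetLike.mem_coe, Subgroup.coe_mul_of_left_le_normalizer_right F signGrp (le_normalizer_signGrp hF)] at hx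
  obtain ⟨f, hf, s, hs, rfl⟩ := hx
  exact ⟨f, hf, s, hs, rfl⟩

theorem isPGroup_comap_perm {F : Subgroup Co0} (h2 : IsPGroup 2 F) (hF : F ≤ monGrp) :
    IsPGroup 2 ((F ⊔ signGrp).comap permHom) :=
  (IsPGroup.to_sup_of_normal_right' h2 isPGroup_signGrp (le_normalizer_signGrp hF)).comap_of_injective
    permHom permHom_injective

theorem conj_sup_signGrp {F : Subgroup Co0} {g : Co0} (hgm : g ∈ monGrp)
    (hg : ∀ f ∈ F, g * f * g⁻¹ ∈ F) {x : Co0} (hx : x ∈ F ⊔ signGrp) :
    g * x * g⁻¹ ∈ F ⊔ signGrp := by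
  have h : F ⊔ signGrp ≤ (F ⊔ signGrp).comap (MulAut.conj g).toMonoidHom :=
    sup_le (fun f hf => Subgroup.mem_sup_left (hg f hf))
      (fun a ha => Subgroup.mem_sup_right (mono_conj_signGrp hgm ha))
  exact h hx

theorem le_signGrp_of_comap_eq_bot {F : Subgroup Co0} (hF : F ≤ monGrp)
    (h : (F ⊔ signGrp).comap permHom = ⊥) : F ≤ signGrp := by
  intro f hf
  obtain ⟨σ, c, hc, rfl⟩ := mono_decomp (hF hf)
  have hσ : σ ∈ (F ⊔ signGrp).comap permHom := by
    have : permHom σ = (signElt c hc)⁻¹ * (signElt c hc * permHom σ) := by rw [inv_mul_cancel_left]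
    show permHom σ ∈ F ⊔ signGrp
    rw [this]
    exact mul_mem (Subgroup.mem_sup_right (inv_mem ⟨c, hc, rfl⟩)) (Subgroup.mem_sup_left hf)
  rw [h, Subgroup.mem_bot] at hσ
  rw [hσ, map_one, mul_one]
  exact ⟨c, hc, rfl⟩

/-- A 2-subgroup of the monomial group normalised by it consists of sign changes. -/
theorem monGrp_normal_two {F : Subgroup Co0} (h2 : IsPGroup 2 F) (hF : F ≤ monGrp)
    (hn : ∀ g ∈ monGrp, ∀ f ∈ F, g * f * g⁻¹ ∈ F) : F ≤ signGrp := by
  refine le_signGrp_of_comap_eq_bot hF ?_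
  have : IsSimpleGroup M24 := Mathieu.isSimple_M24
  have hN : ((F ⊔ signGrp).comap permHom).Normal := ⟨fun x hx m => by
    show permHom (m * x * m⁻¹) ∈ F ⊔ signGrp
    rw [map_mul, map_mul, map_inv]
    exact conj_sup_signGrp (permHom_mem_monGrp m) (hn _ (permHom_mem_monGrp m)) hx⟩
  rcases this.eq_bot_or_eq_top_of_normal _ hN with h | h
  · exact h
  · exfalso
    have h' := isPGroup_comap_perm h2 hF
    rw [h] at h'
    obtain ⟨k, hk⟩ := IsPGroup.iff_card.1 h'
    rw [Subgroup.card_top, Mathieu.card_M24] at hk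
    have h11 : 11 ∣ 2 ^ k := ⟨22256640, by omega⟩
    exact absurd (Nat.prime_eleven.dvd_of_dvd_pow h11) (by norm_num)

/-- The monomial part of a 2-group fixing (4, 4, 0²²), normalised by the monomial stabiliser. -/
theorem stabU_mon_two {F : Subgroup Co0} (h2 : IsPGroup 2 F) (hFm : F ≤ monGrp) (hFu : F ≤ stabU)
    (hn : ∀ g ∈ stabU, g ∈ monGrp → ∀ f ∈ F, g * f * g⁻¹ ∈ F) : F ≤ signU := by
  refine le_inf hFu (le_signGrp_of_comap_eq_bot hFm (pair_two_group_trivial
    (isPGroup_comap_perm h2 hFm) (fun n hn' => ?_) fun m hm x hx => ?_))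
  · obtain ⟨f, hf, s, ⟨c, hc, rfl⟩, e⟩ := mem_sup_signGrp hFm hn'
    have h1 : permHom n • ((signElt c hc)⁻¹ • Spor.leechU) = Spor.leechU := by
      rw [← mul_smul, e, mul_inv_cancel_right]
      exact hFu hf
    rw [inv_eq_of_mul_eq_one_right (signElt_sq ⟨c, hc, rfl⟩)] at h1
    have key : ∀ p, InPair p → InPair ((n : Equiv.Perm GolayPt) p) := by
      intro p hp
      have h3 := congrArg (fun v : leechLattice => (v : GolayPt → ℤ) ((n : Equiv.Perm GolayPt) p)) h1
      change signFun c (Spor.leechU : GolayPt → ℤ) ((n : Equiv.Perm GolayPt).symm ((n : Equiv.Perm GolayPt) p)) =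
        (Spor.leechU : GolayPt → ℤ) ((n : Equiv.Perm GolayPt) p) at h3
      rw [Equiv.symm_apply_apply] at h3
      by_contra hnp
      rw [leechU_val ((n : Equiv.Perm GolayPt) p), if_neg (show ¬ ((n : Equiv.Perm GolayPt) p = none ∨ (n : Equiv.Perm GolayPt) p = some 0) from hnp)] at h3
      simp only [signFun, leechU_val] at h3
      rw [if_pos (show p = none ∨ p = some 0 from hp)] at h3
      split_ifs at h3 <;> norm_num at h3
    exact ⟨key none (Or.inl rfl), key (some 0) (Or.inr rfl)⟩
  · show permHom (m * x * m⁻¹) ∈ F ⊔ signGrp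
    rw [map_mul, map_mul, map_inv]
    exact conj_sup_signGrp (permHom_mem_monGrp m) (hn _ (permHom_leechU hm) (permHom_mem_monGrp m)) hx

/-- An element fixing (4, 4, 0²²) and normalising a group of sign changes which separates the other
points is monomial. -/
theorem monGrp_of_normalizes {F : Subgroup Co0} (hF : F ≤ signU)
    (hsep : ∀ j k, ¬ InPair j → ¬ InPair k → j ≠ k →
      ∃ c, ∃ hc : c ∈ golayCode, signElt c hc ∈ F ∧ c j ≠ c k)
    (hcov : ∀ k, ¬ InPair k → ∃ c, ∃ hc : c ∈ golayCode, signElt c hc ∈ F ∧ c k = 1)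
    {g : Co0} (hg : ∀ f ∈ F, g * f * g⁻¹ ∈ F) : g ∈ monGrp := by
  classical
  set i : GolayPt := some 1 with hi
  have hiP : ¬ InPair i := by rw [hi, InPair]; decide
  set x := g⁻¹ • eight i with hx
  have hcj : ∀ c (hc : c ∈ golayCode), signElt c hc ∈ F →
      signElt c hc • x = x ∨ signElt c hc • x = -x := by
    intro c hc hf
    obtain ⟨d, hd, hd'⟩ := (hF (hg _ hf)).2
    have e : signElt c hc • x = g⁻¹ • (signElt d hd • eight i) := by
      rw [hx, ← hd', ← mul_smul, ← mul_smul]
      congr 1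
      group
    rw [e, signElt_eight]
    split_ifs
    · exact Or.inr (co0_neg _ _)
    · exact Or.inl rfl
  have hsupp : ∀ c (hc : c ∈ golayCode), signElt c hc ∈ F → ∀ p q,
      (x : GolayPt → ℤ) p ≠ 0 → (x : GolayPt → ℤ) q ≠ 0 → c p = c q := by
    intro c hc hf p q hp hq
    rcases hcj c hc hf with h | h
    · have key : ∀ r, (x : GolayPt → ℤ) r ≠ 0 → c r = 0 := fun r hr => by
        have := congrArg (fun v : leechLattice => (v : GolayPt → ℤ) r) h
        simp only [signElt_smul, signFun, mem_supp] at this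
        rcases zmod2_cases (c r) with e | e
        · exact e
        · rw [if_pos e] at this; omega
      rw [key p hp, key q hq]
    · have key : ∀ r, (x : GolayPt → ℤ) r ≠ 0 → c r = 1 := fun r hr => by
        have := congrArg (fun v : leechLattice => (v : GolayPt → ℤ) r) h
        simp only [signElt_smul, signFun, mem_supp, AddSubgroup.coe_neg, Pi.neg_apply] at this
        by_contra e
        rw [if_neg e] at this; omega
      rw [key p hp, key q hq]
  have hpairc : ∀ c (hc : c ∈ golayCode), signElt c hc ∈ F → ∀ p, InPair p → c p = 0 := by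
    intro c hc hf p hp
    obtain ⟨h0, h1⟩ := (signElt_mem_stabU hc).1 (hF hf).1
    rcases hp with rfl | rfl <;> assumption
  obtain ⟨j, hj, hjx⟩ : ∃ j, ¬ InPair j ∧ (x : GolayPt → ℤ) j ≠ 0 := by
    by_contra hcon
    push Not at hcon
    obtain ⟨d, hd, hdF, hdi⟩ := hcov i hiP
    obtain ⟨⟨f, hf⟩, hff⟩ := (Finite.injective_iff_surjective (α := F)
      (f := fun f => ⟨g * f * g⁻¹, hg f f.2⟩)).1 (fun a b h => Subtype.ext (by
        simpa using congrArg Subtype.val h)) ⟨_, hdF⟩
    obtain ⟨c, hc, hcf⟩ := (hF hf).2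
    subst hcf
    have e : g * signElt c hc * g⁻¹ = signElt d hd := congrArg Subtype.val hff
    have h1 : signElt c hc • x = -x := by
      have h2 : signElt d hd • eight i = -eight i := by rw [signElt_eight, if_pos hdi]
      rw [← e, mul_smul, mul_smul, ← hx] at h2
      have := congrArg (g⁻¹ • ·) h2
      simpa [co0_neg, ← hx] using this
    obtain ⟨p, hp⟩ : ∃ p, (x : GolayPt → ℤ) p ≠ 0 := by
      by_contra h
      push Not at h
      have h64 := (co0_norm g⁻¹ (eight i)).trans (sqNorm_eight i)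
      rw [← hx] at h64
      simp [sqNorm, h] at h64
    have hpP : InPair p := by
      by_contra h
      exact hp (hcon p h)
    have := congrArg (fun v : leechLattice => (v : GolayPt → ℤ) p) h1
    simp only [signElt_smul, signFun, mem_supp, AddSubgroup.coe_neg, Pi.neg_apply,
      hpairc c hc hf p hpP, zero_ne_one, if_false] at this
    omega
  have honly : ∀ k, k ≠ j → (x : GolayPt → ℤ) k = 0 := by
    intro k hk
    by_contra hkx
    by_cases hkP : InPair k
    · obtain ⟨c, hc, hcF, hcj'⟩ := hcov j hj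
      have := hsupp c hc hcF k j hkx hjx
      rw [hpairc c hc hcF k hkP, hcj'] at this
      exact zero_ne_one this
    · obtain ⟨c, hc, hcF, hne⟩ := hsep j k hj hkP (Ne.symm hk)
      exact hne (hsupp c hc hcF j k hjx hkx)
  have hxs : (x : GolayPt → ℤ) = Pi.single j ((x : GolayPt → ℤ) j) := by
    funext k
    by_cases hk : k = j
    · subst hk; rw [Pi.single_eq_same]
    · rw [Pi.single_eq_of_ne hk, honly k hk]
  have h64 : ((x : GolayPt → ℤ) j) ^ 2 = 64 := by
    have h := (co0_norm g⁻¹ (eight i)).trans (sqNorm_eight i)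
    rw [← hx, hxs] at h
    simpa [sqNorm, Pi.single_apply, ite_pow] using h
  have hx8 : (x : GolayPt → ℤ) j = 8 ∨ (x : GolayPt → ℤ) j = -8 :=
    sq_eq_sq_iff_eq_or_eq_neg.1 (by rw [h64]; norm_num)
  have hstd : (x : GolayPt → ℤ) ∈ stdCross := ⟨j, _, hx8, hxs⟩
  have : g⁻¹ ∈ monGrp := by
    rw [mem_monGrp, fixesStd_iff, ← cls_stdCross hstd, hx]
    exact clsV_smul (cls_stdCross (eight_mem_stdCross i)).symm
  simpa using inv_mem this

theorem not_inPair_interp {j k : GolayPt} (hj : ¬ InPair j) (hk : ¬ InPair k) (hjk : j ≠ k) :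
    ∃ c, ∃ hc : c ∈ golayCode, signElt c hc ∈ signU ∧ c j = 1 ∧ c k = 0 := by
  obtain ⟨c, hc, he⟩ := code_interp {none, some 0, j, k} (card_le_four.trans (by norm_num))
    (fun p => if p = j then 1 else 0)
  have hj0 : none ≠ j := fun e => hj (Or.inl e.symm)
  have hj1 : some 0 ≠ j := fun e => hj (Or.inr e.symm)
  refine ⟨c, hc, ⟨(signElt_mem_stabU hc).2 ⟨?_, ?_⟩, c, hc, rfl⟩, ?_, ?_⟩
  · rw [he none (by simp), if_neg hj0]
  · rw [he (some 0) (by simp), if_neg hj1]
  · rw [he j (by simp), if_pos rfl]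
  · rw [he k (by simp), if_neg hjk.symm]

theorem isPGroup_signU : IsPGroup 2 signU := isPGroup_signGrp.to_le inf_le_right

/-- A normal 2-subgroup of the stabiliser of (4, 4, 0²²) consists of sign changes. -/
theorem stabU_normal_two_le {F : Subgroup Co0} (h2 : IsPGroup 2 F) (hFu : F ≤ stabU)
    (hn : ∀ g ∈ stabU, ∀ f ∈ F, g * f * g⁻¹ ∈ F) : F ≤ signU := by
  classical
  have hSF : signU ≤ Subgroup.normalizer (F : Set Co0) := fun g hg =>
    Subgroup.mem_normalizer_iff.2 fun a => ⟨fun ha => hn g hg.1 a ha, fun ha => by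
      have := hn g⁻¹ (inv_mem hg.1) _ ha
      simpa [mul_assoc] using this⟩
  set FS := F ⊔ signU with hFS
  have hFS2 : IsPGroup 2 FS := IsPGroup.to_sup_of_normal_left' h2 isPGroup_signU hSF
  have hFSu : FS ≤ stabU := sup_le hFu inf_le_left
  have hconj : ∀ g ∈ stabU, g ∈ monGrp → ∀ f ∈ FS ⊓ monGrp, g * f * g⁻¹ ∈ FS ⊓ monGrp := by
    intro g hgu hgm f hf
    refine Subgroup.mem_inf.2 ⟨?_, monGrp.mul_mem (monGrp.mul_mem hgm hf.2) (monGrp.inv_mem hgm)⟩
    have h : FS ≤ FS.comap (MulAut.conj g).toMonoidHom :=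
      sup_le (fun a ha => Subgroup.mem_sup_left (hn g hgu a ha))
        (fun a ha => Subgroup.mem_sup_right
          ⟨stabU.mul_mem (stabU.mul_mem hgu ha.1) (stabU.inv_mem hgu), mono_conj_signGrp hgm ha.2⟩)
    exact h hf.1
  have hmon : FS ⊓ monGrp ≤ signU :=
    stabU_mon_two (hFS2.to_le inf_le_left) inf_le_right (inf_le_left.trans hFSu) hconj
  suffices hEq : FS = signU from hEq ▸ le_sup_left
  refine le_antisymm ?_ le_sup_right
  by_contra hlt
  have : Group.IsNilpotent FS := hFS2.isNilpotent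
  have hne : signU.subgroupOf FS ≠ ⊤ := fun h => hlt (Subgroup.subgroupOf_eq_top.1 h)
  obtain ⟨x, hxN, hxS⟩ := SetLike.exists_of_lt
    (Group.normalizerCondition_of_isNilpotent _ (lt_top_iff_ne_top.2 hne))
  have hxm : (x : Co0) ∈ monGrp := by
    refine monGrp_of_normalizes le_rfl (fun j k hj hk hjk => ?_) (fun k hk => ?_) (fun f hf => ?_)
    · obtain ⟨c, hc, hcS, e1, e2⟩ := not_inPair_interp hj hk hjk
      exact ⟨c, hc, hcS, by rw [e1, e2]; exact one_ne_zero⟩
    · obtain ⟨l, hl⟩ : (univ \ ({none, some 0, k} : Finset GolayPt)).Nonempty := by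
        apply card_pos.1
        rw [card_sdiff_of_subset (subset_univ _), card_univ, show Fintype.card GolayPt = 24 from rfl]
        have := card_le_three (a := (none : GolayPt)) (b := some 0) (c := k)
        omega
      simp only [mem_sdiff, mem_univ, true_and, mem_insert, mem_singleton, not_or] at hl
      obtain ⟨c, hc, hcS, e1, -⟩ := not_inPair_interp hk
        (show ¬ InPair l from not_or.2 ⟨hl.1, hl.2.1⟩) (Ne.symm hl.2.2)
      exact ⟨c, hc, hcS, e1⟩
    · exact (Subgroup.mem_normalizer_iff.1 hxN ⟨f, Subgroup.mem_sup_right hf⟩).1 hf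
  exact hxS (hmon ⟨x.2, hxm⟩)

theorem exists_stabU_not_mon : ∃ g ∈ stabU, g ∉ monGrp := by
  obtain ⟨σ, hσ, h1, h2⟩ := Mathieu.M24_exists_map_pair (p := some 1) (q := some 2)
    (p' := none) (q' := some 0) (by decide) (by decide)
  refine ⟨permHom ⟨σ, hσ⟩ * xiElt, ?_, fun h => ?_⟩
  · rw [mem_stabU, mul_smul, Subtype.ext_iff]
    show ((permElt σ hσ • (xiElt • Spor.leechU) : leechLattice) : GolayPt → ℤ) = _
    rw [permElt_smul, xiElt_smul]
    have hxi : ∀ p : GolayPt, xiFun Spor.vecU p = if p = some 1 ∨ p = some 2 then 4 else 0 := by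
      decide +kernel
    funext i
    show xiFun Spor.vecU (σ.symm i) = _
    rw [hxi, leechU_val]
    refine if_congr ?_ rfl rfl
    rw [Equiv.symm_apply_eq, Equiv.symm_apply_eq, h1, h2]
  · have hxm : xiElt ∈ monGrp := by
      have := mul_mem (inv_mem (permHom_mem_monGrp ⟨σ, hσ⟩)) h
      rwa [inv_mul_cancel_left] at this
    obtain ⟨c, hc, hout⟩ := exists_sign_out
    exact hout (mul_mem (mul_mem hxm (signGrp_le ⟨c, hc, rfl⟩)) hxm)

/-- The stabiliser of (4, 4, 0²²) has no nontrivial normal 2-subgroup. -/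
theorem stabU_normal_two_eq_bot {F : Subgroup Co0} (h2 : IsPGroup 2 F) (hFu : F ≤ stabU)
    (hn : ∀ g ∈ stabU, ∀ f ∈ F, g * f * g⁻¹ ∈ F) : F = ⊥ := by
  classical
  have hF := stabU_normal_two_le h2 hFu hn
  by_contra hne
  obtain ⟨f, hf, hf1⟩ := F.ne_bot_iff_exists_ne_one.1 hne |> fun ⟨⟨f, hf⟩, h⟩ =>
    (⟨f, hf, fun e => h (Subtype.ext e)⟩ : ∃ f ∈ F, f ≠ 1)
  obtain ⟨c₀, hc₀, rfl⟩ := (hF hf).2
  obtain ⟨hp0, hp1⟩ := (signElt_mem_stabU hc₀).1 (hF hf).1
  obtain ⟨i, hiP, hi1⟩ : ∃ i, ¬ InPair i ∧ c₀ i = 1 := by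
    by_contra hcon
    push Not at hcon
    apply hf1
    have hc0 : c₀ = 0 := funext fun p => by
      by_cases hp : InPair p
      · rcases hp with rfl | rfl
        · exact hp0
        · exact hp1
      · exact (zmod2_cases _).resolve_right (hcon p hp)
    subst hc0
    refine eq_of_smul_eq_smul (α := leechLattice) fun v => Subtype.ext ?_
    rw [signElt_smul, one_smul]
    funext k; simp [signFun, mem_supp]
  have hmove : ∀ {k : ℕ} (x y : Fin k ↪ GolayPt), k ≤ 3 → (∀ a, ¬ InPair (x a)) → (∀ a, ¬ InPair (y a)) →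
      ∀ c (hc : c ∈ golayCode), signElt c hc ∈ F →
      ∃ c', ∃ hc' : c' ∈ golayCode, signElt c' hc' ∈ F ∧ ∀ a, c' (y a) = c (x a) := by
    intro k x y hk hx hy c hc hcF
    obtain ⟨m, hm, hmx⟩ := Mathieu.M22_exists_map hk x y (fun a => not_or.1 (hx a))
      (fun a => not_or.1 (hy a))
    let m' : M24 := ⟨m, (Mathieu.mem_M22_iff.1 hm).1⟩
    refine ⟨c ∘ (m' : Equiv.Perm GolayPt).symm, comp_mem_code (inv_mem m'.2) hc, ?_, fun a => ?_⟩
    · rw [← perm_conj_sign m' hc]
      exact hn _ (permHom_leechU hm) _ hcF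
    · show c (m.symm (y a)) = c (x a)
      rw [← hmx a, Equiv.symm_apply_apply]
  have hcov : ∀ k, ¬ InPair k → ∃ c, ∃ hc : c ∈ golayCode, signElt c hc ∈ F ∧ c k = 1 := by
    intro k hk
    obtain ⟨c', hc', hF', he⟩ := hmove (k := 1) ⟨fun _ => i, Function.injective_of_subsingleton _⟩
      ⟨fun _ => k, Function.injective_of_subsingleton _⟩ (by norm_num) (fun _ => hiP) (fun _ => hk)
      c₀ hc₀ hf
    exact ⟨c', hc', hF', (he 0).trans hi1⟩
  have hsep : ∀ j k, ¬ InPair j → ¬ InPair k → j ≠ k →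
      ∃ c, ∃ hc : c ∈ golayCode, signElt c hc ∈ F ∧ c j ≠ c k := by
    intro j k hj hk hjk
    by_contra hcon
    push Not at hcon
    have hconst : ∀ p, ¬ InPair p → c₀ p = 1 := by
      intro p hp
      by_cases hpi : p = i
      · rw [hpi, hi1]
      obtain ⟨c', hc', hF', he⟩ := hmove (k := 2)
        ⟨![p, i], by intro a b; fin_cases a <;> fin_cases b <;> simp [hpi, Ne.symm hpi]⟩
        ⟨![j, k], by intro a b; fin_cases a <;> fin_cases b <;> simp [hjk, Ne.symm hjk]⟩ (by norm_num)
        (fun a => by fin_cases a; exacts [hp, hiP]) (fun a => by fin_cases a; exacts [hj, hk])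
        c₀ hc₀ hf
      have h0 : c' j = c₀ p := he 0
      have h1 : c' k = c₀ i := he 1
      rw [← h0, hcon c' hc' hF', h1, hi1]
    have hs : support₂ c₀ = univ \ {none, some 0} := by
      ext p
      simp only [mem_supp, mem_sdiff, mem_univ, true_and, mem_insert, mem_singleton]
      refine ⟨fun h hp => ?_, fun h => hconst p h⟩
      rcases hp with rfl | rfl
      · rw [hp0] at h; exact zero_ne_one h
      · rw [hp1] at h; exact zero_ne_one h
    have hd := code_doubly_even hc₀
    rw [hs, card_sdiff_of_subset (subset_univ _), card_univ, show Fintype.card GolayPt = 24 from rfl,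
      card_pair (Option.some_ne_none _).symm] at hd
    omega
  obtain ⟨g, hgu, hgm⟩ := exists_stabU_not_mon
  exact hgm (monGrp_of_normalizes hF hsep hcov (hn g hgu))

end Cfsg.Agent.MonsterType
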