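/-
Groups of Monster type: the extraspecial group `Q`, the Leech lattice modulo 2 and the map to `Co1`.
-/
import Cfsg.Prelude.Def_MonsterType
import Cfsg.Agent.Lib.Leech.ModTwo
import Cfsg.Agent.Lib.Leech.Maximal
import Cfsg.Agent.Lib.LargeExtraspecial.Setting
import Cfsg.Agent.Lib.PGroup.Extraspecial

set_option autoImplicit false

namespace Cfsg.Agent.MonsterType

open Cfsg Leech LargeExtraspecial

variable {G : Type*} [Group G] {z : G}

/-- Equal up to the central involution `z`. -/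
def Rel (z a b : G) : Prop := a = b ∨ a = b * z

/-- `0` for the identity, `1` otherwise. -/
noncomputable def chi (a : G) : ZMod 2 := by classical exact if a = 1 then 0 else 1

theorem chi_one : chi (1 : G) = 0 := by simp [chi]

theorem chi_ne {a : G} (h : a ≠ 1) : chi a = 1 := by simp [chi, h]

theorem chi_eq_zero {a : G} : chi a = 0 ↔ a = 1 := by
  by_cases h : a = 1
  · simp [h, chi_one]
  · simp [chi_ne h, h]

/-- The data of Monster type in the form used here. -/
structure Model (z : G) where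
  Q : Subgroup G
  hub : Hub Q z
  card_Q : Nat.card Q = 2 ^ 25
  abelian_le : ∀ A : Subgroup G, A ≤ Q → IsMulCommutative A → Nat.card A ≤ 2 ^ 13
  π : ↥(Subgroup.centralizer ({z} : Set G)) →* Spor.Co1
  π_surj : Function.Surjective π
  π_ker : ∀ h : ↥(Subgroup.centralizer ({z} : Set G)), π h = 1 ↔ (h : G) ∈ Q
  L : leechLattice → G
  L_mem : ∀ v, L v ∈ Q
  L_add : ∀ v w, Rel z (L (v + w)) (L v * L w)
  L_surj : ∀ x ∈ Q, ∃ v, Rel z x (L v)
  L_ker : ∀ v, Rel z (L v) 1 ↔ ∃ w, v = w + w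
  L_act : ∀ (h : ↥(Subgroup.centralizer ({z} : Set G))) (g : Co0),
    (QuotientGroup.mk g : Spor.Co1) = π h →
      ∀ v, Rel z ((h : G) * L v * (h : G)⁻¹) (L (g • v))

namespace Model

theorem commute_of_mem_C {h : G} (hh : h ∈ Subgroup.centralizer ({z} : Set G)) : Commute h z :=
  Subgroup.mem_centralizer_singleton_iff.1 hh

theorem mem_C {h : G} (hh : Commute h z) : h ∈ Subgroup.centralizer ({z} : Set G) :=
  Subgroup.mem_centralizer_singleton_iff.2 hh.eq

theorem rel_refl (a : G) : Rel z a a := Or.inl rfl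

theorem rel_conj {a b h : G} (hh : Commute h z) (hr : Rel z a b) :
    Rel z (h * a * h⁻¹) (h * b * h⁻¹) := by
  rcases hr with rfl | rfl
  · exact Or.inl rfl
  · refine Or.inr ?_
    rw [mul_assoc (h * b) h⁻¹ z, (Commute.inv_left hh).eq]
    group

theorem rel_one {a : G} : Rel z a 1 ↔ a = 1 ∨ a = z := by simp [Rel]

/-- The commutator form on `Q`. -/
noncomputable def kap (x y : G) : ZMod 2 := chi (y * x * y⁻¹ * x⁻¹)

theorem kap_eq_zero {x y : G} : kap x y = 0 ↔ Commute x y := by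
  rw [kap, chi_eq_zero]
  constructor
  · intro h
    have := congrArg (fun t => t * x * y) h
    simp only [inv_mul_cancel_right, one_mul] at this
    exact this.symm
  · intro h
    rw [show y * x = x * y from h.eq.symm]
    group

variable (M : Model z)

include M

theorem zz : z * z = 1 := M.hub.sq

theorem Q_le_C : M.Q ≤ Subgroup.centralizer ({z} : Set G) := fun _ hq =>
  mem_C (M.hub.central _ hq)

theorem rel_symm {a b : G} (h : Rel z a b) : Rel z b a := by
  rcases h with h | h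
  · exact Or.inl h.symm
  · exact Or.inr (by rw [h, mul_assoc, M.zz, mul_one])

theorem rel_trans {a b c : G} (h : Rel z a b) (h' : Rel z b c) : Rel z a c := by
  rcases h with rfl | rfl <;> rcases h' with rfl | rfl
  · exact Or.inl rfl
  · exact Or.inr rfl
  · exact Or.inr rfl
  · exact Or.inl (by rw [mul_assoc, M.zz, mul_one])

theorem rel_mem {a b : G} (h : Rel z a b) (hb : b ∈ M.Q) : a ∈ M.Q := by
  rcases h with rfl | rfl
  · exact hb
  · exact M.Q.mul_mem hb M.hub.mem

theorem rel_mul {a a' b b' : G} (hb' : b' ∈ M.Q) (h : Rel z a a') (h' : Rel z b b') :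
    Rel z (a * b) (a' * b') := by
  have hc : z * b' = b' * z := (M.hub.central b' hb').eq.symm
  rcases h with rfl | rfl <;> rcases h' with rfl | rfl
  · exact Or.inl rfl
  · exact Or.inr (mul_assoc _ _ _).symm
  · exact Or.inr (by rw [mul_assoc, hc, ← mul_assoc])
  · exact Or.inl (by rw [mul_assoc, ← mul_assoc z, hc, mul_assoc b', M.zz, mul_one])

theorem comm_cases {x y : G} (hx : x ∈ M.Q) (hy : y ∈ M.Q) :
    y * x * y⁻¹ * x⁻¹ = 1 ∨ y * x * y⁻¹ * x⁻¹ = z := by
  rcases M.hub.comm y hy x hx with e | e <;> rw [e]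
  · exact Or.inl (mul_inv_cancel x)
  · exact Or.inr (by rw [(M.hub.central x hx).eq, mul_inv_cancel_right])

theorem chi_mul {a b : G} (ha : a = 1 ∨ a = z) (hb : b = 1 ∨ b = z) :
    chi (a * b) = chi a + chi b := by
  rcases ha with rfl | rfl <;> rcases hb with rfl | rfl <;>
    simp [chi_one, chi_ne M.hub.ne_one, M.zz, show (1 : ZMod 2) + 1 = 0 from by decide]

theorem kap_mul {x y w : G} (hx : x ∈ M.Q) (hy : y ∈ M.Q) (hw : w ∈ M.Q) :
    kap (x * y) w = kap x w + kap y w := by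
  have h2 := M.comm_cases hy hw
  have hc : x * (w * y * w⁻¹ * y⁻¹) = (w * y * w⁻¹ * y⁻¹) * x := by
    rcases h2 with e | e <;> rw [e]
    · simp
    · exact (M.hub.central x hx).eq
  rw [kap, kap, kap, ← M.chi_mul (M.comm_cases hx hw) h2]
  congr 1
  calc w * (x * y) * w⁻¹ * (x * y)⁻¹ = (w * x * w⁻¹ * x⁻¹) * (x * (w * y * w⁻¹ * y⁻¹)) * x⁻¹ := by group
    _ = _ := by rw [hc]; group

theorem sq_mul {x y : G} (hx : x ∈ M.Q) (hy : y ∈ M.Q) :
    chi (x * y * (x * y)) = chi (x * x) + chi (y * y) + kap x y := by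
  have h1 := M.hub.sq_cases x hx
  have h2 := M.hub.sq_cases y hy
  have h3 := M.comm_cases hx hy
  have hc : x * (y * x * y⁻¹ * x⁻¹) = (y * x * y⁻¹ * x⁻¹) * x := by
    rcases h3 with e | e <;> rw [e]
    · simp
    · exact (M.hub.central x hx).eq
  have e : x * y * (x * y) = (y * x * y⁻¹ * x⁻¹) * ((x * x) * (y * y)) := by
    calc x * y * (x * y) = x * (y * x * y⁻¹ * x⁻¹) * (x * (y * y)) := by group
      _ = _ := by rw [hc]; group
  have h12 : x * x * (y * y) = 1 ∨ x * x * (y * y) = z := by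
    rcases h1 with a | a <;> rcases h2 with b | b <;> rw [a, b]
    · exact Or.inl (mul_one 1)
    · exact Or.inr (one_mul z)
    · exact Or.inr (mul_one z)
    · exact Or.inl M.zz
  rw [e, M.chi_mul h3 h12, M.chi_mul h1 h2, kap]
  abel

theorem sq_rel {a b : G} (hb : b ∈ M.Q) (h : Rel z a b) : a * a = b * b := by
  rcases h with rfl | rfl
  · rfl
  · have hc : z * b = b * z := (M.hub.central b hb).eq.symm
    rw [show b * z * (b * z) = b * (z * b) * z by group, hc, show b * (b * z) * z = b * b * (z * z) by group,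
      M.zz, mul_one]

theorem kap_rel {a b w : G} (hb : b ∈ M.Q) (hw : w ∈ M.Q) (h : Rel z a b) : kap a w = kap b w := by
  rcases h with rfl | rfl
  · rfl
  · rw [M.kap_mul hb M.hub.mem hw, kap_eq_zero.2 (M.hub.central w hw).symm, add_zero]

theorem L_congr {v w : leechLattice} : Rel z (M.L v) (M.L w) ↔ clsV v = clsV w := by
  rw [clsV_eq_iff]
  have h0 : Rel z (M.L v) (M.L w * M.L (v - w)) := by
    have := M.L_add w (v - w)
    rwa [add_sub_cancel] at this
  constructor
  · intro h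
    rw [← M.L_ker, rel_one]
    rcases M.rel_trans (M.rel_symm h0) h with e | e
    · exact Or.inl (mul_eq_left.1 e)
    · exact Or.inr (mul_left_cancel e)
  · intro h
    obtain e | e := rel_one.1 ((M.L_ker (v - w)).2 h)
    · rwa [e, mul_one] at h0
    · rw [e] at h0
      exact M.rel_trans h0 (Or.inr rfl)

theorem L_zero : Rel z (M.L 0) 1 := (M.L_ker 0).2 ⟨0, (add_zero 0).symm⟩

theorem exists_sq_ne_one : ∃ x ∈ M.Q, x * x ≠ 1 := by
  by_contra hcon
  push Not at hcon
  have hinv : ∀ x ∈ M.Q, x⁻¹ = x := fun x hx => inv_eq_of_mul_eq_one_right (hcon x hx)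
  have hcomm : ∀ x ∈ M.Q, ∀ y ∈ M.Q, x * y = y * x := fun x hx y hy => by
    have := hinv _ (M.Q.mul_mem hx hy)
    rwa [mul_inv_rev, hinv x hx, hinv y hy, eq_comm] at this
  have hcases : ∀ x ∈ M.Q, x = 1 ∨ x = z := fun x hx => M.hub.self x fun q hq => hcomm x hx q hq
  classical
  have h := Nat.card_le_card_of_injective (fun x : M.Q => decide ((x : G) = 1)) (fun a b e => by
    rcases hcases a a.2 with ha | ha <;> rcases hcases b b.2 with hb | hb
    · exact Subtype.ext (ha.trans hb.symm)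
    · simp [ha, hb, M.hub.ne_one] at e
    · simp [ha, hb, M.hub.ne_one] at e
    · exact Subtype.ext (ha.trans hb.symm))
  rw [M.card_Q, Nat.card_eq_fintype_card, Fintype.card_bool] at h
  norm_num at h

/-- The squaring map is the norm of the lattice. -/
theorem sq_L (v : leechLattice) :
    chi (M.L v * M.L v) = ((sqNorm (v : GolayPt → ℤ) / 16 : ℤ) : ZMod 2) := by
  refine quad_form_unique (fun v => chi (M.L v * M.L v)) (fun a b => ?_) (fun a b c => ?_)
    (fun g a => ?_) ?_ v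
  · show chi _ = chi _
    rw [M.sq_rel (M.L_mem a) (M.L_congr.2 (clsV_eq_iff.2 ⟨b, by abel⟩))]
  · have key : ∀ p q, chi (M.L (p + q) * M.L (p + q)) =
        chi (M.L p * M.L p) + chi (M.L q * M.L q) + kap (M.L p) (M.L q) := fun p q => by
      rw [M.sq_rel (M.Q.mul_mem (M.L_mem p) (M.L_mem q)) (M.L_add p q),
        M.sq_mul (M.L_mem p) (M.L_mem q)]
    show chi _ + chi _ + chi _ + chi _ = chi _ + chi _ + chi _
    rw [key (a + b) c, key a b, key a c, key b c,
      M.kap_rel (M.Q.mul_mem (M.L_mem a) (M.L_mem b)) (M.L_mem c) (M.L_add a b),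
      M.kap_mul (M.L_mem a) (M.L_mem b) (M.L_mem c)]
    linear_combination (0 : ZMod 2) * chi (M.L a * M.L a)
  · show chi _ = chi _
    obtain ⟨h, hh⟩ := M.π_surj (QuotientGroup.mk g)
    have e := M.sq_rel (M.L_mem (g • a)) (M.L_act h g hh.symm a)
    rw [← e, show (h : G) * M.L a * (h : G)⁻¹ * ((h : G) * M.L a * (h : G)⁻¹) =
      (h : G) * (M.L a * M.L a) * (h : G)⁻¹ by group]
    rcases M.hub.sq_cases _ (M.L_mem a) with e' | e' <;> rw [e']
    · simp
    · rw [(commute_of_mem_C h.2).eq, mul_inv_cancel_right]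
  · obtain ⟨x, hx, hne⟩ := M.exists_sq_ne_one
    obtain ⟨w, hw⟩ := M.L_surj x hx
    exact ⟨w, fun h => hne (by rw [M.sq_rel (M.L_mem w) hw]; exact chi_eq_zero.1 h)⟩

theorem kap_L (v w : leechLattice) :
    kap (M.L v) (M.L w) = ((dotInt (v : GolayPt → ℤ) (w : GolayPt → ℤ) / 8 : ℤ) : ZMod 2) := by
  have h := M.sq_mul (M.L_mem v) (M.L_mem w)
  rw [← M.sq_rel (M.Q.mul_mem (M.L_mem v) (M.L_mem w)) (M.L_add v w), M.sq_L, M.sq_L, M.sq_L,
    AddSubgroup.coe_add, sqNorm_add] at h
  have hv := sixteen_dvd_sqNorm (mem_leechLattice.1 v.2)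
  have hw := sixteen_dvd_sqNorm (mem_leechLattice.1 w.2)
  have hd := dot_eight_dvd v w
  obtain ⟨a, ha⟩ := hv
  obtain ⟨b, hb⟩ := hw
  obtain ⟨c, hc⟩ := hd
  rw [ha, hb, hc, show (16 * a + 2 * (8 * c) + 16 * b) = 16 * (a + c + b) by ring,
    Int.mul_ediv_cancel_left _ (by norm_num), Int.mul_ediv_cancel_left _ (by norm_num),
    Int.mul_ediv_cancel_left _ (by norm_num)] at h
  rw [hc, Int.mul_ediv_cancel_left _ (by norm_num)]
  push_cast at h
  linear_combination -h

theorem commute_L {v w : leechLattice} :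
    Commute (M.L v) (M.L w) ↔ 16 ∣ dotInt (v : GolayPt → ℤ) (w : GolayPt → ℤ) := by
  rw [← kap_eq_zero, M.kap_L, ZMod.intCast_zmod_eq_zero_iff_dvd]
  have := dot_eight_dvd v w
  omega

/-- Conjugation acts on representatives through the lattice. -/
theorem act_rel (h : ↥(Subgroup.centralizer ({z} : Set G))) {g : Co0}
    (hg : (QuotientGroup.mk g : Spor.Co1) = M.π h) {x : G} {v : leechLattice} (hx : Rel z x (M.L v)) :
    Rel z ((h : G) * x * (h : G)⁻¹) (M.L (g • v)) :=
  M.rel_trans (rel_conj (commute_of_mem_C h.2) hx) (M.L_act h g hg v)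

/-- A non-central element of `Q` is conjugate in `Q` to the other representative. -/
theorem exists_flip {x : G} (hx : x ∈ M.Q) (h1 : x ≠ 1) (h2 : x ≠ z) :
    ∃ q ∈ M.Q, q * x * q⁻¹ = x * z := by
  obtain ⟨q, hq, hne⟩ := M.hub.exists_not_commute h1 h2
  exact ⟨q, hq, (M.hub.comm q hq x hx).resolve_left fun e =>
    hne (mul_inv_eq_iff_eq_mul.1 e).symm⟩

/-- `x ∈ Q` corresponds to a lattice vector of norm `N`. -/
def IsType (N : ℤ) (x : G) : Prop :=
  ∃ v : leechLattice, sqNorm (v : GolayPt → ℤ) = N ∧ Rel z x (M.L v)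

theorem IsType.mem {N : ℤ} {x : G} (h : M.IsType N x) : x ∈ M.Q := by
  obtain ⟨v, -, hv⟩ := h
  exact M.rel_mem hv (M.L_mem v)

theorem IsType.not_central {N : ℤ} {x : G} (hN : N = 32 ∨ N = 48 ∨ N = 64) (h : M.IsType N x) :
    x ≠ 1 ∧ x ≠ z := by
  obtain ⟨v, hn, hv⟩ := h
  suffices hno : ¬ Rel z x 1 from
    ⟨fun e => hno (rel_one.2 (Or.inl e)), fun e => hno (rel_one.2 (Or.inr e))⟩
  intro h1
  obtain ⟨w, hw⟩ := (M.L_ker v).1 (M.rel_trans (M.rel_symm hv) h1)
  by_cases hw0 : (w : GolayPt → ℤ) = 0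
  · rw [hw, AddSubgroup.coe_add, hw0] at hn
    simp [sqNorm] at hn
    omega
  · have := sqNorm_ge_32 (mem_leechLattice.1 w.2) hw0
    have e : sqNorm (v : GolayPt → ℤ) = 4 * sqNorm (w : GolayPt → ℤ) := by
      rw [hw, AddSubgroup.coe_add, ← two_nsmul, sqNorm_two_nsmul]
    omega

theorem IsType.sq {N : ℤ} {x : G} (hN : N = 32 ∨ N = 64) (h : M.IsType N x) : x * x = 1 := by
  obtain ⟨v, hn, hv⟩ := h
  rw [M.sq_rel (M.L_mem v) hv, ← chi_eq_zero, M.sq_L, hn]
  rcases hN with rfl | rfl <;> decide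

theorem type_cases {x : G} (hx : x ∈ M.Q) (hsq : x * x = 1) (h1 : x ≠ 1) (h2 : x ≠ z) :
    M.IsType 32 x ∨ M.IsType 64 x := by
  obtain ⟨v, hv⟩ := M.L_surj x hx
  obtain ⟨y, u, hyu, hy⟩ := decomp v
  have hvy : Rel z x (M.L y) := M.rel_trans hv (M.L_congr.2 (clsV_eq_iff.2 ⟨u, by rw [hyu]; abel⟩))
  rcases hy with hy | hy | hy | hy
  · exfalso
    subst hy
    rcases rel_one.1 (M.rel_trans hvy M.L_zero) with e | e
    · exact h1 e
    · exact h2 e
  · exact Or.inl ⟨y, hy, hvy⟩
  · exfalso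
    have h := M.sq_L y
    rw [← M.sq_rel (M.L_mem y) hvy, hsq, chi_one, hy] at h
    revert h; decide
  · exact Or.inr ⟨y, hy, hvy⟩

theorem type_exclusive {x : G} (h : M.IsType 32 x) (h' : M.IsType 64 x) : False := by
  obtain ⟨v, hv, hv'⟩ := h
  obtain ⟨w, hw, hw'⟩ := h'
  obtain ⟨u, hu⟩ := clsV_eq_iff.1 (M.L_congr.1 (M.rel_trans (M.rel_symm hv') hw'))
  rcases congr_short (mem_leechLattice.1 w.2) (mem_leechLattice.1 u.2) (x := (v : GolayPt → ℤ))
      (by rw [hv]; norm_num) (by rw [hw]) (by rw [two_nsmul, ← AddSubgroup.coe_add, ← hu]; rfl) with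
    e | e | e
  · rw [e, hw] at hv; norm_num at hv
  · have : sqNorm (-(w : GolayPt → ℤ)) = sqNorm (w : GolayPt → ℤ) := by simp [sqNorm]
    rw [e, this, hw] at hv; norm_num at hv
  · rw [hv] at e; exact absurd e.1 (by norm_num)

/-- An element commuting with `z` can be corrected to fix a representative. -/
theorem exists_exact {x y h : G} (hy : y ∈ M.Q) (hy1 : y ≠ 1) (hy2 : y ≠ z) (hh : Commute h z)
    (hr : Rel z (h * x * h⁻¹) y) :
    ∃ q ∈ M.Q, Commute (q * h) z ∧ q * h * x * (q * h)⁻¹ = y := by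
  rcases hr with e | e
  · exact ⟨1, M.Q.one_mem, by rwa [one_mul], by simpa using e⟩
  · obtain ⟨q, hq, hqy⟩ := M.exists_flip hy hy1 hy2
    refine ⟨q, hq, (M.hub.central q hq).mul_left hh, ?_⟩
    calc q * h * x * (q * h)⁻¹ = q * (h * x * h⁻¹) * q⁻¹ := by group
      _ = q * (y * z) * q⁻¹ := by rw [e]
      _ = (q * y * q⁻¹) * (q * z * q⁻¹) := by group
      _ = y := by rw [hqy, (M.hub.central q hq).eq, mul_inv_cancel_right, mul_assoc, M.zz, mul_one]

/-- `C(z)` is transitive on each type. -/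
theorem transitive {N : ℤ} (hN : N = 32 ∨ N = 48 ∨ N = 64) {x y : G} (hx : M.IsType N x)
    (hy : M.IsType N y) : ∃ h, Commute h z ∧ h * x * h⁻¹ = y := by
  obtain ⟨h1, h2⟩ := hy.not_central M hN
  have hyQ := hy.mem M
  obtain ⟨v, hv, hxv⟩ := hx
  obtain ⟨w, hw, hyw⟩ := hy
  obtain ⟨g, rfl⟩ := co0_transitive v w N hN hv hw
  obtain ⟨h, hh⟩ := M.π_surj (QuotientGroup.mk g)
  obtain ⟨q, -, hq1, hq2⟩ := M.exists_exact hyQ h1 h2 (commute_of_mem_C h.2)
    (M.rel_trans (M.act_rel h hh.symm hxv) (M.rel_symm hyw))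
  exact ⟨_, hq1, hq2⟩

/-- An element of `Co0` fixing the class of `s` lifts to the centraliser of `z` and `s`. -/
theorem exists_lift {s : G} {v : leechLattice} (hs : Rel z s (M.L v)) (h1 : s ≠ 1) (h2 : s ≠ z)
    {g : Co0} (hg : clsV (g • v) = clsV v) :
    ∃ h : ↥(Subgroup.centralizer ({z} : Set G)),
      (QuotientGroup.mk g : Spor.Co1) = M.π h ∧ Commute (h : G) s := by
  obtain ⟨h, hh⟩ := M.π_surj (QuotientGroup.mk g)
  obtain ⟨q, hq, hq1, hq2⟩ := M.exists_exact (M.rel_mem hs (M.L_mem v)) h1 h2 (commute_of_mem_C h.2)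
    (M.rel_trans (M.act_rel h hh.symm hs) (M.rel_trans (M.L_congr.2 hg) (M.rel_symm hs)))
  refine ⟨⟨q * h, mem_C hq1⟩, ?_, ?_⟩
  · have : (⟨q * h, mem_C hq1⟩ : ↥(Subgroup.centralizer ({z} : Set G))) = ⟨q, M.Q_le_C hq⟩ * h := rfl
    rw [this, map_mul, (M.π_ker _).2 hq, one_mul, hh]
  · exact mul_inv_eq_iff_eq_mul.1 hq2

theorem cls_of_commute {s : G} {v : leechLattice} (hs : Rel z s (M.L v))
    {h : ↥(Subgroup.centralizer ({z} : Set G))} {g : Co0}
    (hg : (QuotientGroup.mk g : Spor.Co1) = M.π h) (hc : Commute (h : G) s) :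
    clsV (g • v) = clsV v := by
  have := M.act_rel h hg hs
  rw [hc.eq, mul_inv_cancel_right] at this
  exact M.L_congr.1 (M.rel_trans (M.rel_symm this) hs)

/-- Change of the lattice coordinates by an element of `Co0`. -/
noncomputable def twist (k : Co0) : Model z where
  Q := M.Q
  hub := M.hub
  card_Q := M.card_Q
  abelian_le := M.abelian_le
  π := (MulAut.conj (QuotientGroup.mk k : Spor.Co1)⁻¹).toMonoidHom.comp M.π
  π_surj := (MulAut.conj (QuotientGroup.mk k : Spor.Co1)⁻¹).surjective.comp M.π_surj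
  π_ker := fun h => by
    rw [MonoidHom.comp_apply, ← M.π_ker h]
    exact map_eq_one_iff _ (MulAut.conj (QuotientGroup.mk k : Spor.Co1)⁻¹).injective
  L := fun v => M.L (k • v)
  L_mem := fun _ => M.L_mem _
  L_add := fun v w => by rw [co0_add]; exact M.L_add _ _
  L_surj := fun x hx => by
    obtain ⟨v, hv⟩ := M.L_surj x hx
    exact ⟨k⁻¹ • v, by rwa [smul_inv_smul]⟩
  L_ker := fun v => by
    rw [M.L_ker]
    constructor
    · rintro ⟨w, hw⟩
      refine ⟨k⁻¹ • w, ?_⟩
      rw [← co0_add, ← hw, inv_smul_smul]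
    · rintro ⟨w, rfl⟩
      exact ⟨k • w, co0_add _ _ _⟩
  L_act := fun h g hg v => by
    have hk : (QuotientGroup.mk (k * g * k⁻¹) : Spor.Co1) = M.π h := by
      rw [QuotientGroup.mk_mul, QuotientGroup.mk_mul, QuotientGroup.mk_inv, hg]
      simp [mul_assoc]
    have := M.L_act h (k * g * k⁻¹) hk (k • v)
    rwa [mul_smul, inv_smul_smul, mul_smul] at this

theorem twist_Q (k : Co0) : (M.twist k).Q = M.Q := rfl

theorem twist_L (k : Co0) (v : leechLattice) : (M.twist k).L v = M.L (k • v) := rfl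

theorem twist_π (k : Co0) (h : ↥(Subgroup.centralizer ({z} : Set G))) :
    (M.twist k).π h = (QuotientGroup.mk k : Spor.Co1)⁻¹ * M.π h * (QuotientGroup.mk k : Spor.Co1) := by
  simp [twist]

theorem twist_type (k : Co0) {N : ℤ} {x : G} (h : M.IsType N x) : (M.twist k).IsType N x := by
  obtain ⟨v, hv, hx⟩ := h
  exact ⟨k⁻¹ • v, (co0_norm _ v).trans hv, by rw [twist_L, smul_inv_smul]; exact hx⟩

end Model

section Build

variable [Finite G] {Qs : Subgroup (Subgroup.centralizer ({z} : Set G))} [Qs.Normal]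
  (hS : IsExtraspecialCentralizerSetting z Qs 12)
  (e : (Subgroup.centralizer ({z} : Set G)) ⧸ Qs ≃* Spor.Co1)
  (ψ : leechLattice → Qs ⧸ Subgroup.center Qs) (hψ : IsLeechModTwoIso Qs e ψ)

include hS

theorem hub_of_setting : Hub (Qs.map (Subgroup.centralizer ({z} : Set G)).subtype) z := by
  obtain ⟨hz, hF, hex, -, -⟩ := hS
  refine (Hub.of_setting hz (Subgroup.map_subtype_le _) (by rw [hF]) ?_).1
  exact TI.isExtraspecial_congr
    (Qs.equivMapOfInjective _ (Subgroup.subtype_injective _)) hex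

theorem mk_eq_iff_rel (q q' : Qs) :
    (QuotientGroup.mk q : Qs ⧸ Subgroup.center Qs) = QuotientGroup.mk q' ↔
      Rel z ((q : Subgroup.centralizer ({z} : Set G)) : G) ((q' : Subgroup.centralizer ({z} : Set G)) : G) := by
  have hub := hub_of_setting hS
  have hmem : ∀ a : Qs, ((a : Subgroup.centralizer ({z} : Set G)) : G) ∈
      Qs.map (Subgroup.centralizer ({z} : Set G)).subtype := fun a => ⟨a, a.2, rfl⟩
  have hcen : ∀ a : Qs, a ∈ Subgroup.center Qs ↔ ((a : Subgroup.centralizer ({z} : Set G)) : G) = 1 ∨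
      ((a : Subgroup.centralizer ({z} : Set G)) : G) = z := by
    intro a
    constructor
    · intro ha
      refine hub.self _ fun y hy => ?_
      obtain ⟨b, hb, rfl⟩ := hy
      exact (congrArg (fun t : Qs => ((t : Subgroup.centralizer ({z} : Set G)) : G)) (Subgroup.mem_center_iff.1 ha ⟨b, hb⟩)).symm
    · intro ha
      refine Subgroup.mem_center_iff.2 fun b => Subtype.ext (Subtype.ext ?_)
      show ((b : Subgroup.centralizer ({z} : Set G)) : G) * ((a : Subgroup.centralizer ({z} : Set G)) : G) =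
        ((a : Subgroup.centralizer ({z} : Set G)) : G) * ((b : Subgroup.centralizer ({z} : Set G)) : G)
      rcases ha with e' | e' <;> rw [e']
      · simp
      · exact (hub.central _ (hmem b)).eq
  rw [eq_comm, QuotientGroup.eq, hcen]
  simp only [Subgroup.coe_mul, InvMemClass.coe_inv]
  rw [inv_mul_eq_one, inv_mul_eq_iff_eq_mul, eq_comm (a := ((q' : Subgroup.centralizer ({z} : Set G)) : G))]
  rfl

include hψ

/-- The model attached to Monster type data. -/
noncomputable def Model.ofData : Model z where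
  Q := Qs.map (Subgroup.centralizer ({z} : Set G)).subtype
  hub := hub_of_setting hS
  card_Q := by
    rw [Subgroup.card_map_of_injective (Subgroup.subtype_injective _), hS.2.2.2.1]
  abelian_le := fun A hA hAc => by
    have : Fact (Nat.Prime 2) := ⟨Nat.prime_two⟩
    have hex : Cfsg.IsExtraspecial 2 ↥(Qs.map (Subgroup.centralizer ({z} : Set G)).subtype) :=
      TI.isExtraspecial_congr
        (Qs.equivMapOfInjective _ (Subgroup.subtype_injective _)) hS.2.2.1
    have hc : IsMulCommutative (A.subgroupOf (Qs.map (Subgroup.centralizer ({z} : Set G)).subtype)) :=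
      ⟨⟨fun a b => Subtype.ext (Subtype.ext (by
        have h := congrArg (fun t : A => (t : G)) (hAc.is_comm.comm (⟨_, a.2⟩ : A) ⟨_, b.2⟩)
        exact h))⟩⟩
    have h := PGroup.extraspecial_abelian_card_le hex hc
    rw [Nat.card_congr (Subgroup.subgroupOfEquivOfLe hA).toEquiv,
      Subgroup.card_map_of_injective (Subgroup.subtype_injective _), hS.2.2.2.1] at h
    exact (Nat.pow_le_pow_iff_left (n := 2) (by norm_num)).1 (h.trans (by norm_num))
  π := e.toMonoidHom.comp (QuotientGroup.mk' Qs)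
  π_surj := e.surjective.comp (QuotientGroup.mk'_surjective Qs)
  π_ker := fun h => by
    rw [MonoidHom.comp_apply, MulEquiv.coe_toMonoidHom, map_eq_one_iff _ e.injective,
      QuotientGroup.mk'_apply, QuotientGroup.eq_one_iff]
    exact ⟨fun hh => ⟨h, hh, rfl⟩, fun ⟨a, ha, he⟩ => Subtype.ext he ▸ ha⟩
  L := fun v => (((QuotientGroup.mk_surjective (ψ v)).choose : Qs) : Subgroup.centralizer ({z} : Set G))
  L_mem := fun v => ⟨_, (QuotientGroup.mk_surjective (ψ v)).choose.2, rfl⟩
  L_add := fun v w => by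
    have h := (mk_eq_iff_rel hS (QuotientGroup.mk_surjective (ψ (v + w))).choose
      ((QuotientGroup.mk_surjective (ψ v)).choose * (QuotientGroup.mk_surjective (ψ w)).choose)).1
      (by rw [QuotientGroup.mk_mul, (QuotientGroup.mk_surjective (ψ (v + w))).choose_spec,
        (QuotientGroup.mk_surjective (ψ v)).choose_spec, (QuotientGroup.mk_surjective (ψ w)).choose_spec,
        hψ.1])
    exact h
  L_surj := by
    rintro _ ⟨a, ha, rfl⟩
    obtain ⟨v, hv⟩ := hψ.2.1 (QuotientGroup.mk ⟨a, ha⟩)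
    exact ⟨v, (mk_eq_iff_rel hS ⟨a, ha⟩ (QuotientGroup.mk_surjective (ψ v)).choose).1
      (by rw [(QuotientGroup.mk_surjective (ψ v)).choose_spec, hv])⟩
  L_ker := fun v => by
    have h := mk_eq_iff_rel hS (QuotientGroup.mk_surjective (ψ v)).choose 1
    rw [(QuotientGroup.mk_surjective (ψ v)).choose_spec, QuotientGroup.mk_one, hψ.2.2.1 v] at h
    exact h.symm
  L_act := fun h g hg v => by
    obtain ⟨hh, -⟩ : (QuotientGroup.mk g : Spor.Co1) = e (QuotientGroup.mk h) ∧ True := ⟨hg, trivial⟩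
    have key := hψ.2.2.2 h g hh v _ (QuotientGroup.mk_surjective (ψ v)).choose_spec.symm
    exact (mk_eq_iff_rel hS ⟨h * _ * h⁻¹, (inferInstance : Qs.Normal).conj_mem _
        (QuotientGroup.mk_surjective (ψ v)).choose.2 h⟩ (QuotientGroup.mk_surjective (ψ (g • v))).choose).1
      (key.symm.trans (QuotientGroup.mk_surjective (ψ (g • v))).choose_spec.symm)

theorem Model.ofData_rel (v : leechLattice) (x : Qs) :
    ψ v = QuotientGroup.mk x ↔
      Rel z ((x : Subgroup.centralizer ({z} : Set G)) : G) ((Model.ofData hS e ψ hψ).L v) := by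
  show _ ↔ Rel z _ (((QuotientGroup.mk_surjective (ψ v)).choose : Qs) : Subgroup.centralizer ({z} : Set G))
  rw [← mk_eq_iff_rel hS, (QuotientGroup.mk_surjective (ψ v)).choose_spec, eq_comm]

end Build

theorem exists_model [Finite G] {Qs : Subgroup (Subgroup.centralizer ({z} : Set G))} [Qs.Normal]
    (hM : IsOfMonsterType z Qs) :
    ∃ M : Model z, M.Q = Qs.map (Subgroup.centralizer ({z} : Set G)).subtype := by
  obtain ⟨hS, e, ψ, hψ⟩ := hM
  exact ⟨Model.ofData hS e ψ hψ, rfl⟩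

end Cfsg.Agent.MonsterType
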