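/-
A conjugate of `z` in `Q`: the intersection `Q ∩ Q^g` and the image of `C_{Q^g}(z)` in `Co1`.
-/
import Cfsg.Agent.Lib.MonsterType.Setup
import Cfsg.Agent.Lib.MonsterType.LeechStab

set_option autoImplicit false

namespace Cfsg.Agent.MonsterType

open Cfsg Leech LargeExtraspecial

variable {G : Type*} [Group G] {z : G}

theorem card_eq_ker_mul_range {A B : Type*} [Group A] [Group B] (f : A →* B) :
    Nat.card A = Nat.card f.ker * Nat.card f.range := by
  rw [← Subgroup.card_mul_index f.ker, Subgroup.index_ker]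

/-- `Co0 → Co1`. -/
noncomputable abbrev toCo1 : Co0 →* Spor.Co1 := QuotientGroup.mk' (Subgroup.center Co0)

namespace Model

/-- The conjugate of `Q` attached to `g`. -/
def conjQ (M : Model z) (g : G) : Subgroup G := M.Q.map (MulAut.conj g).toMonoidHom

/-- `Q ∩ Q^g`. -/
def interQ (M : Model z) (g : G) : Subgroup G := M.Q ⊓ M.conjQ g

/-- `C_{Q^g}(z)`. -/
def centQ (M : Model z) (g : G) : Subgroup G := M.conjQ g ⊓ Subgroup.centralizer ({z} : Set G)

/-- The image of `C_{Q^g}(z)` in `Co1`. -/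
def imgQ (M : Model z) (g : G) : Subgroup Spor.Co1 :=
  ((M.centQ g).subgroupOf (Subgroup.centralizer ({z} : Set G))).map M.π

variable (M : Model z) {g : G}

include M

theorem hubConj (g : G) : Hub (M.conjQ g) (g * z * g⁻¹) := M.hub.conj g

theorem card_conjQ (g : G) : Nat.card (M.conjQ g) = 2 ^ 25 :=
  (Subgroup.card_map_of_injective (MulAut.conj g).injective).trans M.card_Q

theorem isPGroup_conjQ (g : G) : IsPGroup 2 (M.conjQ g) := IsPGroup.of_card (M.card_conjQ g)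

theorem interQ_comm (hne : g * z * g⁻¹ ≠ z) : IsMulCommutative (M.interQ g) := by
  refine ⟨⟨fun a b => Subtype.ext ?_⟩⟩
  show (a : G) * (b : G) = (b : G) * (a : G)
  rcases M.hub.comm a a.2.1 b b.2.1 with e | e
  · exact mul_inv_eq_iff_eq_mul.1 e
  rcases (M.hubConj g).comm a a.2.2 b b.2.2 with e' | e'
  · exact mul_inv_eq_iff_eq_mul.1 e'
  · exact absurd (mul_left_cancel (e'.symm.trans e)) hne

theorem card_interQ_le (hne : g * z * g⁻¹ ≠ z) : Nat.card (M.interQ g) ≤ 2 ^ 13 :=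
  M.abelian_le _ inf_le_left (M.interQ_comm hne)

theorem interQ_le_centQ : M.interQ g ≤ M.centQ g :=
  le_inf inf_le_right (inf_le_left.trans M.Q_le_C)

theorem centQ_commute {x : G} (hx : x ∈ M.centQ g) : Commute x (g * z * g⁻¹) :=
  (M.hubConj g).central x hx.1

theorem imgQ_two : IsPGroup 2 (M.imgQ g) := by
  refine IsPGroup.map ?_ _
  exact ((M.isPGroup_conjQ g).to_le inf_le_left).comap_of_injective _ (Subgroup.subtype_injective _)

theorem imgQ_normal {h : ↥(Subgroup.centralizer ({z} : Set G))} (hh : Commute (h : G) (g * z * g⁻¹))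
    {e : Spor.Co1} (he : e ∈ M.imgQ g) : M.π h * e * (M.π h)⁻¹ ∈ M.imgQ g := by
  obtain ⟨r, hr, rfl⟩ := he
  refine ⟨h * r * h⁻¹, ⟨(M.hubConj g).normalizes h hh r hr.1, ?_⟩, by simp⟩
  exact (h * r * h⁻¹).2

theorem imgQ_cls {v : leechLattice} (hv : Rel z (g * z * g⁻¹) (M.L v)) {g0 : Co0}
    (hg : toCo1 g0 ∈ M.imgQ g) : clsV (g0 • v) = clsV v := by
  obtain ⟨r, hr, he⟩ := hg
  exact M.cls_of_commute hv (h := r) he.symm (M.centQ_commute hr)

variable [Finite G]

theorem z_mem_conjQ (hs : g * z * g⁻¹ ∈ M.Q) (hne : g * z * g⁻¹ ≠ z) : z ∈ M.conjQ g := by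
  refine M.hub.self_mem_conj g hs hne (M.hub.exists_noncommuting_pair ?_ hs ?_)
  · rw [M.card_Q]; norm_num
  · rw [show g * z * g⁻¹ * (g * z * g⁻¹) = g * (z * z) * g⁻¹ by group, M.zz]
    group

theorem card_centQ_ge (hs : g * z * g⁻¹ ∈ M.Q) (hne : g * z * g⁻¹ ≠ z) :
    2 ^ 24 ≤ Nat.card (M.centQ g) := by
  classical
  have hzR := M.z_mem_conjQ hs hne
  have hub := M.hubConj g
  have hrz : ∀ a ∈ M.conjQ g, a * z * a⁻¹ = z ∨ a * z * a⁻¹ = z * (g * z * g⁻¹) := fun a ha =>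
    hub.comm a ha z hzR
  obtain ⟨r₀, hr₀, hmove⟩ : ∃ r₀ ∈ M.conjQ g, ∀ a ∈ M.conjQ g, ¬ Commute a z → Commute (r₀⁻¹ * a) z := by
    by_cases hall : ∀ a ∈ M.conjQ g, Commute a z
    · exact ⟨1, one_mem _, fun a ha h => absurd (hall a ha) h⟩
    push Not at hall
    obtain ⟨r, hr, hrn⟩ := hall
    refine ⟨r, hr, fun a ha han => ?_⟩
    have e1 := (hrz r hr).resolve_left fun e => hrn (mul_inv_eq_iff_eq_mul.1 e)
    have e2 := (hrz a ha).resolve_left fun e => han (mul_inv_eq_iff_eq_mul.1 e)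
    refine mul_inv_eq_iff_eq_mul.1 ?_
    calc r⁻¹ * a * z * (r⁻¹ * a)⁻¹ = r⁻¹ * (a * z * a⁻¹) * r := by group
      _ = r⁻¹ * (r * z * r⁻¹) * r := by rw [e1, e2]
      _ = z := by group
  let φ : M.conjQ g → M.centQ g × Bool := fun a =>
    if h : Commute (a : G) z then (⟨a, a.2, mem_C h⟩, true)
    else (⟨r₀⁻¹ * a, Subgroup.mul_mem _ (Subgroup.inv_mem _ hr₀) a.2, mem_C (hmove a a.2 h)⟩, false)
  have hφ : Function.Injective φ := by
    intro a b h
    simp only [φ] at h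
    split_ifs at h
    · exact Subtype.ext (Subtype.ext_iff.1 (congrArg Prod.fst h) :)
    · exact Bool.noConfusion (congrArg Prod.snd h)
    · exact Bool.noConfusion (congrArg Prod.snd h)
    · exact Subtype.ext (mul_left_cancel (Subtype.ext_iff.1 (congrArg Prod.fst h) :))
  have h := Nat.card_le_card_of_injective φ hφ
  rw [M.card_conjQ, Nat.card_prod, Nat.card_eq_fintype_card (α := Bool), Fintype.card_bool] at h
  omega

theorem card_centQ_eq : Nat.card (M.centQ g) = Nat.card (M.interQ g) * Nat.card (M.imgQ g) := by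
  set C := Subgroup.centralizer ({z} : Set G) with hC
  set K := (M.centQ g).subgroupOf C with hK
  have hKc : Nat.card K = Nat.card (M.centQ g) :=
    Nat.card_congr (Subgroup.subgroupOfEquivOfLe inf_le_right).toEquiv
  have h := card_eq_ker_mul_range (M.π.comp K.subtype)
  rw [hKc] at h
  rw [h]
  congr 1
  · refine Nat.card_congr ⟨fun a => ⟨((a.1 : C) : G), ⟨(M.π_ker a.1.1).1 a.2, a.1.2.1⟩⟩,
      fun a => ⟨⟨⟨a.1, M.Q_le_C a.2.1⟩, M.interQ_le_centQ a.2⟩, (M.π_ker _).2 a.2.1⟩,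
      fun a => rfl, fun a => rfl⟩
  · have : (M.π.comp K.subtype).range = M.imgQ g := by
      rw [MonoidHom.range_comp, Subgroup.range_subtype]; rfl
    rw [this]

theorem card_imgQ_ge (hs : g * z * g⁻¹ ∈ M.Q) (hne : g * z * g⁻¹ ≠ z) :
    2 ^ 11 ≤ Nat.card (M.imgQ g) := by
  have h1 := M.card_centQ_ge hs hne
  have h2 := M.card_interQ_le hne
  rw [M.card_centQ_eq] at h1
  have h3 := h1.trans (Nat.mul_le_mul_right _ h2)
  omega

/-- A vector of norm 32 does not give a conjugate of `z`. -/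
theorem not_type32_conj (hne : g * z * g⁻¹ ≠ z) (h32 : M.IsType 32 (g * z * g⁻¹)) : False := by
  obtain ⟨v, hv, hvs⟩ := h32
  obtain ⟨k, hk⟩ := co0_transitive Spor.leechU v 32 (Or.inl rfl) (by decide +kernel) hv
  set M' := M.twist k with hM'
  have hsu : Rel z (g * z * g⁻¹) (M'.L Spor.leechU) := by
    rw [hM', twist_L, hk]; exact hvs
  have hs : g * z * g⁻¹ ∈ M'.Q := M'.rel_mem hsu (M'.L_mem _)
  have h1 : g * z * g⁻¹ ≠ 1 := fun e => M.hub.ne_one (conj_eq_one_iff.1 e)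
  set F : Subgroup Co0 := stabU ⊓ (M'.imgQ g).comap toCo1 with hF
  let ρ : F →* M'.imgQ g :=
    MonoidHom.mk' (fun f => ⟨toCo1 (f : Co0), f.2.2⟩) (fun a b => Subtype.ext (map_mul toCo1 (a : Co0) b))
  have hρi : Function.Injective ρ := by
    refine (injective_iff_map_eq_one ρ).2 fun f hf => ?_
    have hc : (f : Co0) ∈ Subgroup.center Co0 :=
      (QuotientGroup.eq_one_iff _).1 (congrArg Subtype.val hf)
    rcases center_eq hc with e | e
    · exact Subtype.ext e
    · exfalso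
      have := mem_stabU.1 f.2.1
      rw [e, negElt_smul] at this
      have h4 := congrArg (fun w : leechLattice => (w : GolayPt → ℤ) none) this
      simp [leechU_val] at h4
  have hρs : Function.Surjective ρ := by
    rintro ⟨e, he⟩
    obtain ⟨g0, rfl⟩ := QuotientGroup.mk_surjective e
    have hc := M'.imgQ_cls hsu (g0 := g0) he
    obtain ⟨w, hw⟩ := clsV_eq_iff.1 hc
    rcases congr_short (mem_leechLattice.1 Spor.leechU.2) (mem_leechLattice.1 w.2)
        (x := ((g0 • Spor.leechU : leechLattice) : GolayPt → ℤ))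
        (by rw [co0_norm]; decide +kernel) (by decide +kernel)
        (by rw [two_nsmul, ← AddSubgroup.coe_add, ← hw]; rfl) with h | h | h
    · exact ⟨⟨g0, mem_stabU.2 (Subtype.ext h), he⟩, rfl⟩
    · have hn : toCo1 negElt = 1 := (QuotientGroup.eq_one_iff _).2 negElt_mem_center
      refine ⟨⟨negElt * g0, mem_stabU.2 ?_, ?_⟩, Subtype.ext ?_⟩
      · rw [mul_smul, negElt_smul]
        refine Subtype.ext ?_
        rw [AddSubgroup.coe_neg, h, neg_neg]
      · show toCo1 (negElt * g0) ∈ M'.imgQ g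
        rw [map_mul, hn, one_mul]; exact he
      · show toCo1 (negElt * g0) = _
        rw [map_mul, hn, one_mul]; rfl
    · exact absurd (h.2.1) (by decide +kernel)
  have hF2 : IsPGroup 2 F := M'.imgQ_two.of_injective ρ hρi
  have hle : F ≤ signU := stabU_normal_two_le hF2 inf_le_left fun g0 hg0 f hf => by
    refine ⟨stabU.mul_mem (stabU.mul_mem hg0 hf.1) (stabU.inv_mem hg0), ?_⟩
    obtain ⟨h, hh, hhs⟩ := M'.exists_lift hsu h1 hne (g := g0) (by rw [mem_stabU.1 hg0])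
    show toCo1 (g0 * f * g0⁻¹) ∈ M'.imgQ g
    rw [map_mul, map_mul, map_inv, show toCo1 g0 = M'.π h from hh]
    exact M'.imgQ_normal hhs hf.2
  have h11 := (M'.card_imgQ_ge hs hne).trans (Nat.card_le_card_of_surjective ρ hρs)
  have h10 := (Nat.le_of_dvd Nat.card_pos (Subgroup.card_dvd_of_le hle)).trans card_signU_le
  omega

/-- A conjugate of `z` in `Q` other than `z` has type 64. -/
theorem type64_of_conj {x : G} (hx : x ∈ M.Q) (hc : IsConj z x) (hne : x ≠ z) : M.IsType 64 x := by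
  obtain ⟨g, rfl⟩ := isConj_iff.1 hc
  refine (M.type_cases hx ?_ (fun e => M.hub.ne_one (conj_eq_one_iff.1 e)) hne).resolve_left
    (M.not_type32_conj hne)
  rw [show g * z * g⁻¹ * (g * z * g⁻¹) = g * (z * z) * g⁻¹ by group, M.zz]
  group

theorem conj_iff (hex : ∃ g, g * z * g⁻¹ ∈ M.Q ∧ g * z * g⁻¹ ≠ z) {x : G} (hx : x ∈ M.Q) :
    (IsConj z x ∧ x ≠ z) ↔ M.IsType 64 x := by
  refine ⟨fun h => M.type64_of_conj hx h.1 h.2, fun h => ⟨?_, (h.not_central M (by norm_num)).2⟩⟩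
  obtain ⟨g, hg, hgne⟩ := hex
  obtain ⟨k, -, hk⟩ := M.transitive (by norm_num) (M.type64_of_conj hg (isConj_iff.2 ⟨g, rfl⟩) hgne) h
  exact isConj_iff.2 ⟨k * g, by rw [← hk]; group⟩

theorem type32_of_not_conj (hex : ∃ g, g * z * g⁻¹ ∈ M.Q ∧ g * z * g⁻¹ ≠ z) {x : G} (hx : x ∈ M.Q)
    (h2 : orderOf x = 2) (hn : ¬ IsConj z x) : M.IsType 32 x := by
  have hsq : x * x = 1 := by rw [← pow_two, ← h2]; exact pow_orderOf_eq_one x
  have h1 : x ≠ 1 := fun e => by rw [e, orderOf_one] at h2; omega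
  exact (M.type_cases hx hsq h1 fun e => hn (e ▸ IsConj.refl z)).resolve_right fun h =>
    hn ((M.conj_iff hex hx).2 h).1

/-- The standard position: `g z g⁻¹` corresponds to `8 e_∞`. -/
theorem std_pair (hne : g * z * g⁻¹ ≠ z) (hv : Rel z (g * z * g⁻¹) (M.L (eight none))) :
    M.imgQ g = signGrp.map toCo1 ∧ Nat.card (M.imgQ g) = 2 ^ 11 ∧
      Nat.card (M.interQ g) = 2 ^ 13 := by
  have hs : g * z * g⁻¹ ∈ M.Q := M.rel_mem hv (M.L_mem _)
  have h1 : g * z * g⁻¹ ≠ 1 := fun e => M.hub.ne_one (conj_eq_one_iff.1 e)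
  set F : Subgroup Co0 := (M.imgQ g).comap toCo1 with hF
  have hmap : F.map toCo1 = M.imgQ g :=
    Subgroup.map_comap_eq_self_of_surjective (QuotientGroup.mk'_surjective _) _
  have hFm : F ≤ monGrp := fun f hf => mem_monGrp.2 (fixesStd_iff.2 (M.imgQ_cls hv hf))
  have hcardF : Nat.card F = 2 * Nat.card (M.imgQ g) := by
    rw [card_eq_ker_mul_range (toCo1.comp F.subtype), MonoidHom.range_comp, Subgroup.range_subtype, hmap]
    congr 1
    rw [← card_center]
    refine Nat.card_congr ⟨fun a => ⟨a.1.1, (QuotientGroup.eq_one_iff _).1 a.2⟩,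
      fun a => ⟨⟨a.1, ?_⟩, (QuotientGroup.eq_one_iff _).2 a.2⟩, fun a => rfl, fun a => rfl⟩
    show toCo1 (a : Co0) ∈ M.imgQ g
    rw [show toCo1 (a : Co0) = 1 from (QuotientGroup.eq_one_iff _).2 a.2]
    exact one_mem _
  have : Fact (Nat.Prime 2) := ⟨Nat.prime_two⟩
  obtain ⟨n, hn⟩ := IsPGroup.iff_card.1 (M.imgQ_two (g := g))
  have hF2 : IsPGroup 2 F := IsPGroup.of_card (n := n + 1) (by rw [hcardF, hn]; ring)
  have hle : F ≤ signGrp := monGrp_normal_two hF2 hFm fun g0 hg0 f hf => by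
    obtain ⟨h, hh, hhs⟩ := M.exists_lift hv h1 hne (g := g0) (fixesStd_iff.1 (mem_monGrp.1 hg0))
    show toCo1 (g0 * f * g0⁻¹) ∈ M.imgQ g
    rw [map_mul, map_mul, map_inv, show toCo1 g0 = M.π h from hh]
    exact M.imgQ_normal hhs hf
  have h11 := M.card_imgQ_ge hs hne
  have h12 := (Nat.le_of_dvd Nat.card_pos (Subgroup.card_dvd_of_le hle)).trans card_signGrp_le
  have h13 := M.card_interQ_le (g := g) hne
  have h24 := M.card_centQ_ge hs hne
  rw [M.card_centQ_eq] at h24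
  have hi : Nat.card (M.imgQ g) = 2 ^ 11 := by omega
  have hFs : F = signGrp := Subgroup.eq_of_le_of_card_ge hle (by
    have := card_signGrp_le; omega)
  refine ⟨by rw [← hmap, hFs], hi, ?_⟩
  rw [hi] at h24
  omega

theorem card_interQ (hs : g * z * g⁻¹ ∈ M.Q) (hne : g * z * g⁻¹ ≠ z) :
    Nat.card (M.interQ g) = 2 ^ 13 := by
  obtain ⟨v, hv, hvs⟩ := M.type64_of_conj hs (isConj_iff.2 ⟨g, rfl⟩) hne
  obtain ⟨k, hk⟩ := co0_transitive (eight none) v 64 (by norm_num) (sqNorm_eight none) hv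
  exact ((M.twist k).std_pair hne (by rw [twist_L, hk]; exact hvs)).2.2

end Model

theorem mem_map_centralizer {Qs : Subgroup (Subgroup.centralizer ({z} : Set G))} {s : G}
    (h : ∃ hsc : s ∈ Subgroup.centralizer ({z} : Set G),
      (⟨s, hsc⟩ : Subgroup.centralizer ({z} : Set G)) ∈ Qs) :
    s ∈ Qs.map (Subgroup.centralizer ({z} : Set G)).subtype :=
  h.elim fun _ hs => ⟨_, hs, rfl⟩

theorem exists_conj_mem {Qs : Subgroup (Subgroup.centralizer ({z} : Set G))} {w : ℕ}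
    (hS : IsExtraspecialCentralizerSetting z Qs w) :
    ∃ g, g * z * g⁻¹ ∈ Qs.map (Subgroup.centralizer ({z} : Set G)).subtype ∧ g * z * g⁻¹ ≠ z :=
  hS.2.2.2.2.imp fun _ h => ⟨mem_map_centralizer h.1, h.2⟩

end Cfsg.Agent.MonsterType
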