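/-
An involution of `Q` not fused to `z` lies in `Q ∩ Q^m` for a suitable `m` centralising it.
-/
import Cfsg.Agent.Lib.MonsterType.Pair
import Cfsg.Agent.Lib.Leech.CodeWeights

set_option autoImplicit false

namespace Cfsg.Agent.MonsterType

open Cfsg Finset Leech

/-- No code word other than `0` and `1` has all its meets with code words in the code. -/
theorem code_and_closed {c : GolayPt → ZMod 2} (hc : c ∈ golayCode)
    (h : ∀ d ∈ golayCode, c * d ∈ golayCode) : c = 0 ∨ c = 1 := by
  classical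
  by_contra hcon
  push Not at hcon
  obtain ⟨c', hc', hne, hw, h'⟩ : ∃ c' ∈ golayCode, c' ≠ 0 ∧ (support₂ c').card ≤ 12 ∧
      ∀ d ∈ golayCode, c' * d ∈ golayCode := by
    by_cases hle : (support₂ c).card ≤ 12
    · exact ⟨c, hc, hcon.1, hle, h⟩
    refine ⟨1 + c, add_mem one_mem_code hc, fun e => hcon.2 ?_, ?_, fun d hd => ?_⟩
    · funext i
      have := congrFun e i
      simp only [Pi.add_apply, Pi.one_apply, Pi.zero_apply] at this ⊢
      revert this; generalize c i = a; revert a; decide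
    · have hs : support₂ (1 + c) = univ \ support₂ c := by
        ext i
        simp only [mem_supp, mem_sdiff, mem_univ, true_and, Pi.add_apply, Pi.one_apply]
        rcases zmod2_cases (c i) with e | e <;> simp [e]
      rw [hs, card_sdiff_of_subset (subset_univ _), card_univ, show Fintype.card GolayPt = 24 from rfl]
      omega
    · rw [add_mul, one_mul]; exact add_mem hd (h d hd)
  have h8 := code_min_weight hc' hne
  obtain ⟨i, hi, j, hj, hij⟩ := Finset.one_lt_card.1 (show 1 < (support₂ c').card by omega)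
  obtain ⟨d, hd, he⟩ := code_interp {i, j} (card_le_two.trans (by norm_num))
    (fun p => if p = i then 1 else 0)
  have hdi : d i = 1 := by simpa using he i (by simp)
  have hdj : d j = 0 := by simpa [hij.symm] using he j (by simp)
  have hci : c' i = 1 := mem_supp.1 hi
  have hcj : c' j = 1 := mem_supp.1 hj
  have hA := code_min_weight (h' d hd) fun e => by
    have := congrFun e i
    rw [Pi.mul_apply, hci, hdi, Pi.zero_apply] at this
    exact absurd this (by simp)
  have hB := code_min_weight (add_mem hc' (h' d hd)) fun e => by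
    have := congrFun e j
    rw [Pi.add_apply, Pi.mul_apply, hcj, hdj, Pi.zero_apply] at this
    exact absurd this (by simp)
  have hsum : (support₂ (c' * d)).card + (support₂ (c' + c' * d)).card = (support₂ c').card := by
    have e1 : support₂ (c' * d) = (support₂ c').filter (fun p => d p = 1) := by
      ext p
      simp only [mem_supp, mem_filter, Pi.mul_apply]
      rcases zmod2_cases (c' p) with a | a <;> rcases zmod2_cases (d p) with b | b <;> simp [a, b]
    have e2 : support₂ (c' + c' * d) = (support₂ c').filter (fun p => ¬ d p = 1) := by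
      ext p
      simp only [mem_supp, mem_filter, Pi.add_apply, Pi.mul_apply]
      rcases zmod2_cases (c' p) with a | a <;> rcases zmod2_cases (d p) with b | b <;>
        simp [a, b, show (1 : ZMod 2) + 1 = 0 from by decide]
    rw [e1, e2, card_filter_add_card_filter_not]
  omega

theorem eight_val_none (p : GolayPt) :
    (eight none : GolayPt → ℤ) p = if p = none then 8 else 0 := by
  rw [eight_val, Pi.single_apply]

/-- A sign change moves (4, 4, 0²²) at most by the class of `8 e_∞`. -/
theorem sign_leechU {a : Co0} (ha : a ∈ signGrp) :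
    clsV (a • Spor.leechU) = clsV Spor.leechU ∨
      clsV (a • Spor.leechU) = clsV (Spor.leechU + eight none) := by
  obtain ⟨c, hc, rfl⟩ := ha
  have hs : ∀ p : GolayPt, (signElt c hc • Spor.leechU : leechLattice).1 p =
      if c p = 1 then -(Spor.leechU : GolayPt → ℤ) p else (Spor.leechU : GolayPt → ℤ) p := fun p => by
    rw [show (signElt c hc • Spor.leechU : leechLattice).1 = signFun c _ from signElt_smul c hc _]
    simp only [signFun, mem_supp]
  rcases zmod2_cases (c none) with h0 | h0 <;> rcases zmod2_cases (c (some 0)) with h1 | h1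
  · left
    refine clsV_eq_iff.2 ⟨0, Subtype.ext (funext fun p => ?_)⟩
    simp only [AddSubgroup.coe_sub, Pi.sub_apply, AddSubgroup.coe_add, Pi.add_apply,
      AddSubgroup.coe_zero, Pi.zero_apply, hs, leechU_val]
    rcases (show p = none ∨ p = some 0 ∨ (p ≠ none ∧ p ≠ some 0) by tauto) with rfl | rfl | ⟨e0, e1⟩
    · simp [h0]
    · simp [h1]
    · simp [e0, e1]
  · right
    refine clsV_eq_iff.2 ⟨-Spor.leechU, Subtype.ext (funext fun p => ?_)⟩
    simp only [AddSubgroup.coe_sub, Pi.sub_apply, AddSubgroup.coe_add, Pi.add_apply,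
      AddSubgroup.coe_neg, Pi.neg_apply, hs, leechU_val, eight_val_none]
    rcases (show p = none ∨ p = some 0 ∨ (p ≠ none ∧ p ≠ some 0) by tauto) with rfl | rfl | ⟨e0, e1⟩
    · simp [h0]
    · simp [h1]
    · simp [e0, e1]
  · right
    refine clsV_eq_iff.2 ⟨-eight none, Subtype.ext (funext fun p => ?_)⟩
    simp only [AddSubgroup.coe_sub, Pi.sub_apply, AddSubgroup.coe_add, Pi.add_apply,
      AddSubgroup.coe_neg, Pi.neg_apply, hs, leechU_val, eight_val_none]
    rcases (show p = none ∨ p = some 0 ∨ (p ≠ none ∧ p ≠ some 0) by tauto) with rfl | rfl | ⟨e0, e1⟩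
    · simp [h0]
    · simp [h1]
    · simp [e0, e1]
  · left
    refine clsV_eq_iff.2 ⟨-Spor.leechU, Subtype.ext (funext fun p => ?_)⟩
    simp only [AddSubgroup.coe_sub, Pi.sub_apply, AddSubgroup.coe_add, Pi.add_apply,
      AddSubgroup.coe_neg, Pi.neg_apply, hs, leechU_val]
    rcases (show p = none ∨ p = some 0 ∨ (p ≠ none ∧ p ≠ some 0) by tauto) with rfl | rfl | ⟨e0, e1⟩
    · simp [h0]
    · simp [h1]
    · simp [e0, e1]

/-- A sign change moving the orthogonal complement of the class of `8 e_∞` at most by that class is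
central. -/
theorem sign_central {a : Co0} (ha : a ∈ signGrp)
    (h : ∀ w : leechLattice, 16 ∣ dotInt (w : GolayPt → ℤ) (eight none : GolayPt → ℤ) →
      clsV (a • w) = clsV w ∨ clsV (a • w) = clsV (eight none + w)) :
    toCo1 a = 1 := by
  classical
  obtain ⟨c, hc, rfl⟩ := ha
  suffices hcl : ∀ d ∈ golayCode, c * d ∈ golayCode by
    refine (QuotientGroup.eq_one_iff _).2 ?_
    rcases code_and_closed hc hcl with rfl | rfl
    · have : signElt 0 hc = 1 := eq_of_smul_eq_smul (α := leechLattice) fun v => Subtype.ext (by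
        rw [signElt_smul, one_smul]; funext k; simp [signFun, mem_supp])
      rw [this]; exact one_mem _
    · exact negElt_mem_center
  intro d hd
  set w : leechLattice := ⟨_, mem_leechLattice.2 (minSpan_le (two_ind_mem_minSpan hd))⟩ with hw
  have hdot : 16 ∣ dotInt (w : GolayPt → ℤ) (eight none : GolayPt → ℤ) := by
    simp [dotInt, hw, eight_val, Pi.single_apply]
    omega
  have hval : ∀ p, (signElt c hc • w : leechLattice).1 p - (w : GolayPt → ℤ) p =
      if c p = 1 ∧ d p = 1 then -4 else 0 := fun p => by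
    rw [show (signElt c hc • w : leechLattice).1 = signFun c _ from signElt_smul c hc _, hw]
    simp only [signFun, mem_supp, ind]
    rcases zmod2_cases (c p) with a | a <;> rcases zmod2_cases (d p) with b | b <;> simp [a, b]
  obtain ⟨x, ε, hε, hx⟩ : ∃ x : leechLattice, ∃ ε : ℤ, (ε = 0 ∨ ε = 1) ∧
      ∀ p, (if c p = 1 ∧ d p = 1 then (-4 : ℤ) else 0) - ε * (eight none : GolayPt → ℤ) p =
        2 * (x : GolayPt → ℤ) p := by
    rcases h w hdot with e | e <;> obtain ⟨x, hx⟩ := clsV_eq_iff.1 e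
    · refine ⟨x, 0, Or.inl rfl, fun p => ?_⟩
      have := congrArg (fun v : leechLattice => (v : GolayPt → ℤ) p) hx
      simp only [AddSubgroup.coe_sub, Pi.sub_apply, AddSubgroup.coe_add, Pi.add_apply] at this
      rw [hval] at this
      omega
    · refine ⟨x, 1, Or.inr rfl, fun p => ?_⟩
      have := congrArg (fun v : leechLattice => (v : GolayPt → ℤ) p) hx
      simp only [AddSubgroup.coe_sub, Pi.sub_apply, AddSubgroup.coe_add, Pi.add_apply] at this
      have hv := hval p
      omega
  have hb : hb (x : GolayPt → ℤ) = c * d := by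
    funext p
    have hp := hx p
    rw [eight_val_none] at hp
    rcases zmod2_cases (c p) with a | a <;> rcases zmod2_cases (d p) with b | b <;>
      simp only [a, b, Pi.mul_apply, mul_one, mul_zero, zero_mul, and_self, and_true, true_and,
        zero_ne_one, and_false, false_and, if_false, if_true] at hp ⊢
    all_goals first | rw [hb_eq_zero_iff] | rw [hb_eq_one_iff]
    all_goals rcases hε with rfl | rfl <;> split_ifs at hp <;> omega
  exact hb ▸ (mem_leechLattice.1 x.2).2.1

variable {G : Type*} [Group G] {z : G}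

namespace Model

variable (M : Model z) {g : G}

include M

theorem type_of_twist (k : Co0) {N : ℤ} {x : G} (h : (M.twist k).IsType N x) : M.IsType N x := by
  obtain ⟨v, hv, hx⟩ := h
  exact ⟨k • v, (co0_norm _ v).trans hv, hx⟩

variable [Finite G]

/-- In the standard position, the involution of (4, 4, 0²²) lies in `Q^g`. -/
theorem L_leechU_mem_inter (hne : g * z * g⁻¹ ≠ z) (hv : Rel z (g * z * g⁻¹) (M.L (eight none))) :
    M.L Spor.leechU ∈ M.interQ g := by
  set q := M.L Spor.leechU with hqdef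
  set s := g * z * g⁻¹ with hsdef
  have hs : s ∈ M.Q := M.rel_mem hv (M.L_mem _)
  have h1 : s ≠ 1 := fun e => M.hub.ne_one (conj_eq_one_iff.1 e)
  have hqs : Commute q s := by
    have hc : Commute q (M.L (eight none)) := M.commute_L.2 (by decide +kernel)
    rcases hv with e | e <;> rw [e]
    · exact hc
    · exact hc.mul_right (M.hub.central q (M.L_mem _))
  set q' := g⁻¹ * q * g with hq'def
  set s' := g⁻¹ * z * g with hs'def
  have hs'Q : s' ∈ M.Q := LargeExtraspecial.mem_conj_iff.1 (M.z_mem_conjQ hs hne)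
  have hs'ne : s' ≠ z := fun e => hne (by
    rw [hsdef]; calc g * z * g⁻¹ = g * s' * g⁻¹ := by rw [e]
      _ = z := by rw [hs'def]; group)
  have hs'conj : g⁻¹ * z * g⁻¹⁻¹ = s' := by rw [inv_inv]
  obtain ⟨v', hv', hv'r⟩ := M.type64_of_conj hs'Q (isConj_iff.2 ⟨g⁻¹, hs'conj⟩) hs'ne
  obtain ⟨k, hk⟩ := co0_transitive (eight none) v' 64 (by norm_num) (sqNorm_eight none) hv'
  set M' := M.twist k with hM'
  have hv2 : Rel z (g⁻¹ * z * g⁻¹⁻¹) (M'.L (eight none)) := by
    rw [hs'conj, hM', twist_L, hk]; exact hv'r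
  have himg := (M'.std_pair (g := g⁻¹) (by rw [hs'conj]; exact hs'ne) hv2).1
  have hq'C : Commute q' z := by
    have := hqs.map (MulAut.conj g⁻¹).toMonoidHom
    simp only [MulEquiv.coe_toMonoidHom, MulAut.conj_apply, inv_inv] at this
    rwa [show g⁻¹ * s * g = z by rw [hsdef]; group] at this
  have hq'R : q' ∈ M'.centQ g⁻¹ :=
    ⟨LargeExtraspecial.mem_conj_iff.2 (by rw [inv_inv, hq'def]; simp [mul_assoc, hqdef]; exact M.L_mem _),
      mem_C hq'C⟩
  obtain ⟨a, ha, hae⟩ : M'.π ⟨q', hq'R.2⟩ ∈ signGrp.map toCo1 :=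
    himg ▸ ⟨⟨q', hq'R.2⟩, hq'R, rfl⟩
  suffices hcen : toCo1 a = 1 by
    refine ⟨M.L_mem _, LargeExtraspecial.mem_conj_iff.2 ?_⟩
    show q' ∈ M.Q
    exact (M'.π_ker ⟨q', hq'R.2⟩).1 (hae.symm.trans hcen)
  refine sign_central ha fun w hw => ?_
  set y := M'.L w with hydef
  have hyQ : y ∈ M.Q := M'.L_mem w
  have hys : Commute y s' := by
    have hc : Commute y (M'.L (eight none)) := M'.commute_L.2 hw
    rw [← hs'conj]
    rcases hv2 with e | e <;> rw [e]
    · exact hc
    · exact hc.mul_right (M.hub.central y hyQ)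
  set r := g * y * g⁻¹ with hrdef
  have hrz : Commute r z := by
    have := hys.map (MulAut.conj g).toMonoidHom
    simp only [MulEquiv.coe_toMonoidHom, MulAut.conj_apply] at this
    rwa [show g * s' * g⁻¹ = z by rw [hs'def]; group] at this
  have hr : r ∈ M.centQ g := ⟨⟨y, hyQ, rfl⟩, mem_C hrz⟩
  have himg0 := (M.std_pair hne hv).1
  obtain ⟨a0, ha0, ha0e⟩ : M.π ⟨r, hr.2⟩ ∈ signGrp.map toCo1 :=
    himg0 ▸ ⟨⟨r, hr.2⟩, hr, rfl⟩
  have hact := M.act_rel ⟨r, hr.2⟩ ha0e (Model.rel_refl q)
  have hrq : Rel z (r * q * r⁻¹) q ∨ Rel z (r * q * r⁻¹) (q * s) := by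
    rcases sign_leechU ha0 with e | e
    · exact Or.inl (M.rel_trans hact (M.L_congr.2 e))
    · exact Or.inr (M.rel_trans hact (M.rel_trans (M.L_congr.2 e) (M.rel_trans (M.L_add _ _)
        (M.rel_mul hs (Model.rel_refl q) (M.rel_symm hv)))))
  have hq2 : q * q = 1 := by
    rw [← chi_eq_zero, M.sq_L]
    decide +kernel
  have hq'inv : q'⁻¹ = q' := inv_eq_of_mul_eq_one_right (by
    calc q' * q' = g⁻¹ * (q * q) * g := by rw [hq'def]; group
      _ = 1 := by rw [hq2]; group)
  have hzy : Commute z y := (M.hub.central y hyQ).symm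
  have hs'2 : s'⁻¹ = s' := inv_eq_of_mul_eq_one_right (by
    calc s' * s' = g⁻¹ * (z * z) * g := by rw [hs'def]; group
      _ = 1 := by rw [M.zz]; group)
  have e0 : y * q' * y⁻¹ = g⁻¹ * (r * q * r⁻¹) * g := by rw [hrdef, hq'def]; group
  -- `q'` moves `y` at most by `⟨z, s'⟩`
  have key : ∀ e, y * q' * y⁻¹ = q' * e → q' * y * q'⁻¹ = e * y := fun e he => by
    calc q' * y * q'⁻¹ = q'⁻¹ * (y * q' * y⁻¹) * y := by
          rw [hq'inv]
          group
      _ = e * y := by rw [he]; group
  have hres : Rel z (q' * y * q'⁻¹) y ∨ Rel z (q' * y * q'⁻¹) (s' * y) := by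
    have hsz : g⁻¹ * s * g = z := by rw [hsdef]; group
    rcases hrq with (e | e) | (e | e)
    · exact Or.inl (Or.inl (by rw [key 1 (by rw [e0, e, hq'def]; group), one_mul]))
    · exact Or.inr (Or.inl (key s' (by rw [e0, e, hq'def, hs'def]; group)))
    · exact Or.inl (Or.inr (by
        rw [key z (by rw [e0, e, hq'def, hsdef]; group), hzy.eq]))
    · exact Or.inr (Or.inr (by
        rw [key (z * s') (by rw [e0, e, hq'def, hsdef, hs'def]; group), mul_assoc s', ← hzy.eq,
          ← mul_assoc s' z y, (M.hub.central s' hs'Q).eq]))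
  have hyact : Rel z (q' * y * q'⁻¹) (M'.L (a • w)) :=
    M'.act_rel ⟨q', hq'R.2⟩ hae (Model.rel_refl y)
  rcases hres with e | e
  · exact Or.inl (M'.L_congr.1 (M.rel_trans (M.rel_symm hyact) e))
  · refine Or.inr (M'.L_congr.1 (M.rel_trans (M.rel_symm hyact) (M.rel_trans e ?_)))
    exact M'.rel_trans (M'.rel_mul (M'.L_mem w) (hs'conj ▸ hv2) (Model.rel_refl y))
      (M'.rel_symm (M'.L_add _ _))

/-- An involution of `Q` of type 32 is centralised by an element moving `z` inside `Q`. -/
theorem exists_partner (hex : ∃ g, g * z * g⁻¹ ∈ M.Q ∧ g * z * g⁻¹ ≠ z) {t : G}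
    (ht : M.IsType 32 t) :
    ∃ m, m * t * m⁻¹ = t ∧ m * z * m⁻¹ ∈ M.Q ∧ m * z * m⁻¹ ≠ z := by
  have hex' := hex
  obtain ⟨g, hg, hne⟩ := hex
  obtain ⟨v, hv, hvs⟩ := M.type64_of_conj hg (isConj_iff.2 ⟨g, rfl⟩) hne
  obtain ⟨k, hk⟩ := co0_transitive (eight none) v 64 (by norm_num) (sqNorm_eight none) hv
  set M1 := M.twist k with hM1
  have hq := M1.L_leechU_mem_inter hne (by rw [hM1, twist_L, hk]; exact hvs)
  set q := M1.L Spor.leechU with hqdef
  have hqt : M.IsType 32 q :=
    M.type_of_twist k ⟨Spor.leechU, by decide +kernel, Or.inl rfl⟩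
  have hqsq := hqt.sq M (Or.inl rfl)
  obtain ⟨hq1, -⟩ := hqt.not_central M (Or.inl rfl)
  have hqn : ¬ IsConj z q := fun hc => M.type_exclusive hqt
    (M.type64_of_conj hq.1 hc (hqt.not_central M (Or.inl rfl)).2)
  obtain ⟨h, hh, hht⟩ := M.transitive (Or.inl rfl) hqt ht
  set t' := g⁻¹ * q * g with ht'
  have ht'Q : t' ∈ M.Q := LargeExtraspecial.mem_conj_iff.1 hq.2
  have ht't : M.IsType 32 t' := by
    refine M.type32_of_not_conj hex' ht'Q ?_ fun hc => hqn ?_
    · rw [orderOf_eq_iff (by norm_num)]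
      refine ⟨by rw [ht', pow_two, show g⁻¹ * q * g * (g⁻¹ * q * g) = g⁻¹ * (q * q) * g by group, hqsq]; group,
        fun m hm2 hm0 => ?_⟩
      obtain rfl : m = 1 := by omega
      rw [pow_one, ht']
      intro e
      apply hq1
      calc q = g * (g⁻¹ * q * g) * g⁻¹ := by group
        _ = 1 := by rw [e]; group
    · exact hc.trans (isConj_iff.2 ⟨g, by rw [ht']; group⟩)
  obtain ⟨k', hk', hkt⟩ := M.transitive (Or.inl rfl) ht't ht
  refine ⟨h * g * k'⁻¹, ?_, ?_, ?_⟩
  · calc h * g * k'⁻¹ * t * (h * g * k'⁻¹)⁻¹ = h * g * (k'⁻¹ * t * k') * g⁻¹ * h⁻¹ := by group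
      _ = h * g * t' * g⁻¹ * h⁻¹ := by rw [← hkt]; group
      _ = t := by rw [← hht, ht']; group
  all_goals
    have e : h * g * k'⁻¹ * z * (h * g * k'⁻¹)⁻¹ = h * (g * z * g⁻¹) * h⁻¹ := by
      calc h * g * k'⁻¹ * z * (h * g * k'⁻¹)⁻¹ = h * g * (k'⁻¹ * z * k') * g⁻¹ * h⁻¹ := by group
        _ = h * g * z * g⁻¹ * h⁻¹ := by
          rw [show k'⁻¹ * z * k' = z by rw [(Commute.inv_left hk').eq, inv_mul_cancel_right]]
        _ = _ := by group
    rw [e]
  · exact M.hub.normalizes h hh _ hg
  · intro e'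
    apply hne
    calc g * z * g⁻¹ = h⁻¹ * (h * (g * z * g⁻¹) * h⁻¹) * h := by group
      _ = z := by rw [e', (Commute.inv_left hh).eq, inv_mul_cancel_right]

end Model

end Cfsg.Agent.MonsterType
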