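/-
The centraliser of `z` and an involution of type 32, mapped onto the stabiliser of (4, 4, 0²²).
-/
import Cfsg.Agent.Lib.MonsterType.Partner

set_option autoImplicit false

namespace Cfsg.Agent.MonsterType

open Cfsg Leech

theorem toCo1_inj_stabU {g g' : Co0} (hg : g ∈ stabU) (hg' : g' ∈ stabU)
    (h : toCo1 g = toCo1 g') : g = g' := by
  have hc : g⁻¹ * g' ∈ Subgroup.center Co0 := by
    rw [← QuotientGroup.eq_one_iff]
    show toCo1 (g⁻¹ * g') = 1
    rw [map_mul, map_inv, h, inv_mul_cancel]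
  rcases center_eq hc with e | e
  · exact inv_mul_eq_one.1 e
  · exfalso
    have hm : negElt ∈ stabU := e ▸ mul_mem (inv_mem hg) hg'
    rw [mem_stabU, negElt_smul] at hm
    have := congrArg (fun w : leechLattice => (w : GolayPt → ℤ) none) hm
    simp [leechU_val] at this

/-- An element fixing the class of (4, 4, 0²²) fixes it up to sign. -/
theorem exists_stabU_rep {g : Co0} (h : clsV (g • Spor.leechU) = clsV Spor.leechU) :
    ∃ g' ∈ stabU, toCo1 g' = toCo1 g := by
  obtain ⟨w, hw⟩ := clsV_eq_iff.1 h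
  rcases congr_short (mem_leechLattice.1 Spor.leechU.2) (mem_leechLattice.1 w.2)
      (x := ((g • Spor.leechU : leechLattice) : GolayPt → ℤ))
      (by rw [co0_norm]; decide +kernel) (by decide +kernel)
      (by rw [two_nsmul, ← AddSubgroup.coe_add, ← hw]; rfl) with h | h | h
  · exact ⟨g, mem_stabU.2 (Subtype.ext h), rfl⟩
  · refine ⟨negElt * g, mem_stabU.2 ?_, ?_⟩
    · rw [mul_smul, negElt_smul]
      refine Subtype.ext ?_
      rw [AddSubgroup.coe_neg, h, neg_neg]
    · rw [map_mul, show toCo1 negElt = 1 from (QuotientGroup.eq_one_iff _).2 negElt_mem_center, one_mul]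
  · exact absurd h.2.1 (by decide +kernel)

/-- A subgroup normalised by the stabiliser of `u` and acting trivially on `u^⊥ / u` modulo 2 is
trivial. -/
theorem stabU_perp_trivial {F : Subgroup Co0} (hFu : F ≤ stabU)
    (hn : ∀ g ∈ stabU, ∀ f ∈ F, g * f * g⁻¹ ∈ F)
    (hp : ∀ g ∈ F, ∀ w : leechLattice, 16 ∣ dotInt (w : GolayPt → ℤ) (Spor.leechU : GolayPt → ℤ) →
      clsV (g • w) = clsV w ∨ clsV (g • w) = clsV (w + Spor.leechU)) : F = ⊥ := by
  refine stabU_normal_two_eq_bot (fun f => ⟨2, ?_⟩) hFu hn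
  apply Subtype.ext
  set g : Co0 := (f : Co0) with hgdef
  have hgu : g • Spor.leechU = Spor.leechU := hFu f.2
  have hadd : ∀ a b : leechLattice, clsV a = clsV b → ∀ c, clsV (a + c) = clsV (b + c) := by
    intro a b h c
    obtain ⟨x, hx⟩ := clsV_eq_iff.1 h
    exact clsV_eq_iff.2 ⟨x, by rw [add_sub_add_right_eq_sub]; exact hx⟩
  have h2u : ∀ a : leechLattice, clsV (a + Spor.leechU + Spor.leechU) = clsV a := fun a =>
    clsV_eq_iff.2 ⟨Spor.leechU, by abel⟩
  have hperp : ∀ w : leechLattice, 16 ∣ dotInt (w : GolayPt → ℤ) (Spor.leechU : GolayPt → ℤ) →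
      clsV (g • g • w) = clsV w := by
    intro w hw
    rcases hp g f.2 w hw with e | e
    · exact (clsV_smul e).trans e
    · refine (clsV_smul e).trans ?_
      rw [co0_add, hgu]
      exact (hadd _ _ e _).trans (h2u w)
  have hall : ∀ v : leechLattice, clsV (g • g • g • g • v) = clsV v := by
    intro v
    set d := g • v - v with hd
    have hgv : g • v = v + d := by rw [hd]; abel
    have hdot : 16 ∣ dotInt (d : GolayPt → ℤ) (Spor.leechU : GolayPt → ℤ) := by
      have h1 := co0_dot g v Spor.leechU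
      rw [hgu] at h1
      rw [hd, AddSubgroup.coe_sub]
      simp only [dotInt, Pi.sub_apply, sub_mul, Finset.sum_sub_distrib] at h1 ⊢
      rw [h1, sub_self]
      exact dvd_zero _
    have h2 : clsV (g • g • v) = clsV v ∨ clsV (g • g • v) = clsV (v + Spor.leechU) := by
      have e : g • g • v = g • d + (v + d) := by rw [hgv, co0_add, hgv, add_comm]
      rw [e]
      rcases hp g f.2 d hdot with h | h
      · exact Or.inl ((hadd _ _ h _).trans (clsV_eq_iff.2 ⟨d, by abel⟩))
      · exact Or.inr ((hadd _ _ h _).trans (clsV_eq_iff.2 ⟨d, by abel⟩))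
    rcases h2 with h | h
    · exact (clsV_smul (clsV_smul h)).trans h
    · refine (clsV_smul (clsV_smul h)).trans ?_
      rw [co0_add, hgu, co0_add, hgu]
      exact (hadd _ _ h _).trans (h2u v)
  have h4u : g ^ 2 ^ 2 ∈ stabU := stabU.pow_mem (hFu f.2) _
  show ((f ^ 2 ^ 2 : F) : Co0) = ((1 : F) : Co0)
  rw [Subgroup.coe_pow, Subgroup.coe_one]
  refine toCo1_inj_stabU h4u (one_mem _) ?_
  rw [map_one]
  refine (QuotientGroup.eq_one_iff _).2 (mem_center_of_trivial_mod_two _ fun v => ?_)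
  obtain ⟨w, hw⟩ := clsV_eq_iff.1 (hall v)
  refine ⟨w, ?_⟩
  rw [two_nsmul, ← AddSubgroup.coe_add, ← hw, AddSubgroup.coe_sub]
  simp [pow_succ, mul_smul]
  rfl

variable {G : Type*} [Group G] {z t : G}

/-- `C(z) ∩ C(t)`. -/
def pairCent (z t : G) : Subgroup G :=
  Subgroup.centralizer ({z} : Set G) ⊓ Subgroup.centralizer ({t} : Set G)

variable (M : Model z) (htu : Rel z t (M.L Spor.leechU))

include htu

theorem exists_stabU_image (x : pairCent z t) :
    ∃ g : stabU, toCo1 (g : Co0) = M.π ⟨x, x.2.1⟩ := by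
  obtain ⟨g0, hg0⟩ := QuotientGroup.mk_surjective (M.π ⟨x, x.2.1⟩)
  obtain ⟨g, hg, he⟩ := exists_stabU_rep
    (M.cls_of_commute htu hg0 (Subgroup.mem_centralizer_singleton_iff.1 x.2.2))
  exact ⟨⟨g, hg⟩, he.trans hg0⟩

/-- The action of `C(z) ∩ C(t)` on the lattice. -/
noncomputable def toStabU : pairCent z t →* stabU :=
  MonoidHom.mk' (fun x => (exists_stabU_image M htu x).choose) fun x y => by
    apply Subtype.ext
    refine toCo1_inj_stabU (Subtype.prop _) (Subtype.prop _) ?_
    refine (exists_stabU_image M htu (x * y)).choose_spec.trans ?_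
    rw [Subgroup.coe_mul (stabU) _ _, map_mul, (exists_stabU_image M htu x).choose_spec,
      (exists_stabU_image M htu y).choose_spec, ← map_mul]
    rfl

theorem toStabU_spec (x : pairCent z t) :
    toCo1 (toStabU M htu x : Co0) = M.π ⟨x, x.2.1⟩ :=
  (exists_stabU_image M htu x).choose_spec

theorem toStabU_ker : (toStabU M htu).ker = M.Q.subgroupOf (pairCent z t) := by
  ext x
  rw [MonoidHom.mem_ker, Subgroup.mem_subgroupOf, ← M.π_ker ⟨x, x.2.1⟩, ← toStabU_spec M htu x]
  refine ⟨fun h => by rw [h, Subgroup.coe_one, map_one], fun h => Subtype.ext ?_⟩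
  exact toCo1_inj_stabU (Subtype.prop _) (one_mem _) (h.trans (map_one _).symm)

theorem toStabU_surjective : Function.Surjective (toStabU M htu) := by
  intro g
  have h32 : M.IsType 32 t := ⟨Spor.leechU, by decide +kernel, htu⟩
  obtain ⟨h1, h2⟩ := h32.not_central M (Or.inl rfl)
  obtain ⟨h, hh, hht⟩ := M.exists_lift htu h1 h2 (g := (g : Co0)) (by rw [mem_stabU.1 g.2])
  refine ⟨⟨h, h.2, Subgroup.mem_centralizer_singleton_iff.2 hht.eq⟩, Subtype.ext ?_⟩
  exact toCo1_inj_stabU (Subtype.prop _) g.2 ((toStabU_spec M htu _).trans hh.symm)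

theorem toStabU_act (x : pairCent z t) {a : G} {v : leechLattice} (ha : Rel z a (M.L v)) :
    Rel z ((x : G) * a * (x : G)⁻¹) (M.L ((toStabU M htu x : Co0) • v)) :=
  M.act_rel ⟨x, x.2.1⟩ (toStabU_spec M htu x) ha

theorem commute_t_iff {a : G} {v : leechLattice} (hv : Rel z a (M.L v)) :
    Commute a t ↔ 16 ∣ dotInt (v : GolayPt → ℤ) (Spor.leechU : GolayPt → ℤ) := by
  rw [← M.commute_L, ← Model.kap_eq_zero, ← Model.kap_eq_zero,
    M.kap_rel (M.L_mem v) (M.rel_mem htu (M.L_mem _)) hv]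
  rcases htu with rfl | rfl
  · rfl
  · have hL := M.L_mem Spor.leechU
    have hc : ∀ b ∈ M.Q, Commute b (M.L Spor.leechU * z) ↔ Commute b (M.L Spor.leechU) := fun b hb =>
      ⟨fun h => by
        have := h.mul_right (M.hub.central b hb)
        rwa [mul_assoc, M.zz, mul_one] at this, fun h => h.mul_right (M.hub.central b hb)⟩
    rw [Model.kap_eq_zero, Model.kap_eq_zero, hc _ (M.L_mem v)]

end Cfsg.Agent.MonsterType
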