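/-
For an involution `t` of `Q` not fused to `z`, `C(t)/⟨t⟩` is of Baby Monster type.
-/
import Cfsg.Agent.Lib.MonsterType.BabyMap
import Cfsg.Agent.Lib.Components.GenFitting
import Cfsg.Agent.Lib.PGroup.SymplecticType
import Cfsg.Agent.Lib.PCore.Basic

set_option autoImplicit false

namespace Cfsg.Agent.MonsterType

open Cfsg Leech

variable {G : Type*} [Group G] {z t : G}

theorem z_mem_centralizer_t (M : Model z) (htu : Rel z t (M.L Spor.leechU)) :
    z ∈ Subgroup.centralizer ({t} : Set G) :=
  Subgroup.mem_centralizer_singleton_iff.2 (M.hub.central t (M.rel_mem htu (M.L_mem _))).eq.symm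

section

variable (M : Model z) (htu : Rel z t (M.L Spor.leechU))
  [((Subgroup.zpowers t).subgroupOf (Subgroup.centralizer ({t} : Set G))).Normal]

include htu

theorem t_sq : t * t = 1 := by
  refine Model.IsType.sq M (N := 32) (Or.inl rfl) ⟨Spor.leechU, by decide +kernel, htu⟩

theorem t_ne : t ≠ 1 ∧ t ≠ z :=
  Model.IsType.not_central M (N := 32) (Or.inl rfl) ⟨Spor.leechU, by decide +kernel, htu⟩

theorem mk_eq_one {x : Subgroup.centralizer ({t} : Set G)} :
    (QuotientGroup.mk x : Subgroup.centralizer ({t} : Set G) ⧸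
      (Subgroup.zpowers t).subgroupOf (Subgroup.centralizer ({t} : Set G))) = 1 ↔
      (x : G) = 1 ∨ (x : G) = t := by
  rw [QuotientGroup.eq_one_iff, Subgroup.mem_subgroupOf]
  constructor
  · intro h
    obtain ⟨k, hk⟩ := Subgroup.mem_zpowers_iff.1 h
    rcases Int.even_or_odd k with ⟨j, rfl⟩ | ⟨j, rfl⟩
    · left; rw [← hk, ← two_mul, zpow_mul, zpow_two, t_sq M htu, one_zpow]
    · right; rw [← hk, zpow_add, zpow_one, zpow_mul, zpow_two, t_sq M htu, one_zpow, one_mul]
  · rintro (h | h) <;> rw [h]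
    · exact one_mem _
    · exact Subgroup.mem_zpowers t

/-- The involution `z` modulo `⟨t⟩`. -/
noncomputable def zBar : Subgroup.centralizer ({t} : Set G) ⧸
    (Subgroup.zpowers t).subgroupOf (Subgroup.centralizer ({t} : Set G)) :=
  QuotientGroup.mk ⟨z, z_mem_centralizer_t M htu⟩

/-- `C(z) ∩ C(t) → C(z̄)`. -/
noncomputable def eta : pairCent z t →* Subgroup.centralizer
    ({zBar M htu} : Set (Subgroup.centralizer ({t} : Set G) ⧸
      (Subgroup.zpowers t).subgroupOf (Subgroup.centralizer ({t} : Set G)))) :=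
  MonoidHom.mk' (fun x => ⟨QuotientGroup.mk ⟨x, x.2.2⟩, by
    rw [Subgroup.mem_centralizer_singleton_iff, zBar, ← QuotientGroup.mk_mul, ← QuotientGroup.mk_mul]
    exact congrArg _ (Subtype.ext (Subgroup.mem_centralizer_singleton_iff.1 x.2.1))⟩)
    fun x y => Subtype.ext rfl

theorem eta_eq_one {x : pairCent z t} : eta M htu x = 1 ↔ (x : G) = 1 ∨ (x : G) = t := by
  rw [Subtype.ext_iff]
  exact mk_eq_one M htu

theorem eta_eq {x y : pairCent z t} :
    eta M htu x = eta M htu y ↔ (x : G) = y ∨ (x : G) = y * t := by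
  rw [eq_comm, ← inv_mul_eq_one, ← map_inv, ← map_mul, eta_eq_one M htu, Subgroup.coe_mul,
    Subgroup.coe_inv, inv_mul_eq_one, inv_mul_eq_iff_eq_mul, eq_comm (a := (y : G))]

theorem eta_surjective [Finite G] : Function.Surjective (eta M htu) := by
  rintro ⟨y, hy⟩
  obtain ⟨⟨x, hx⟩, rfl⟩ := QuotientGroup.mk_surjective y
  have h1 := Subgroup.mem_centralizer_singleton_iff.1 hy
  rw [zBar, ← QuotientGroup.mk_mul, ← QuotientGroup.mk_mul, eq_comm, ← inv_mul_eq_one,
    ← QuotientGroup.mk_inv, ← QuotientGroup.mk_mul, mk_eq_one M htu] at h1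
  suffices hz : Commute x z from ⟨⟨x, Model.mem_C hz, hx⟩, rfl⟩
  simp only [Subgroup.coe_mul, Subgroup.coe_inv] at h1
  rcases h1 with h | h
  · exact (inv_mul_eq_one.1 h).symm
  exfalso
  rw [inv_mul_eq_iff_eq_mul] at h
  have hxt : x * t = t * x := Subgroup.mem_centralizer_singleton_iff.1 hx
  have hconj : IsConj z (z * t) := by
    refine isConj_iff.2 ⟨x, ?_⟩
    rw [h, mul_assoc z x t, hxt, ← mul_assoc, mul_inv_cancel_right]
  have htQ : t ∈ M.Q := M.rel_mem htu (M.L_mem _)
  have h32 : M.IsType 32 (z * t) := by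
    refine ⟨Spor.leechU, by decide +kernel, M.rel_trans ?_ htu⟩
    exact Or.inr (M.hub.central t htQ).eq.symm
  refine M.type_exclusive h32 (M.type64_of_conj (h32.mem M) hconj fun e => (t_ne M htu).1 ?_)
  exact mul_eq_left.1 e

/-- `Q ∩ C(t)` inside `C(z) ∩ C(t)`. -/
abbrev qPair : Subgroup (pairCent z t) := M.Q.subgroupOf (pairCent z t)

/-- The candidate `O_2(C(z̄))`. -/
noncomputable def qBar : Subgroup (Subgroup.centralizer
    ({zBar M htu} : Set (Subgroup.centralizer ({t} : Set G) ⧸
      (Subgroup.zpowers t).subgroupOf (Subgroup.centralizer ({t} : Set G))))) :=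
  (M.Q.subgroupOf (pairCent z t)).map (eta M htu)

theorem comap_qBar : (qBar M htu).comap (eta M htu) = M.Q.subgroupOf (pairCent z t) := by
  refine le_antisymm (fun x hx => ?_) (Subgroup.le_comap_map _ _)
  obtain ⟨y, hy, e⟩ := hx
  rcases (eta_eq M htu).1 e with h | h
  · show (x : G) ∈ M.Q
    rw [← h]; exact hy
  · show (x : G) ∈ M.Q
    have htQ : t ∈ M.Q := M.rel_mem htu (M.L_mem _)
    have : (x : G) = (y : G) * t⁻¹ := eq_mul_inv_of_mul_eq h.symm
    rw [this]
    exact M.Q.mul_mem hy (M.Q.inv_mem htQ)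

theorem mem_pairCent {a : G} (ha : a ∈ M.Q) (hat : Commute a t) : a ∈ pairCent z t :=
  ⟨M.Q_le_C ha, Subgroup.mem_centralizer_singleton_iff.2 hat.eq⟩

theorem L_mem_pairCent {v : leechLattice}
    (h : 16 ∣ dotInt (v : GolayPt → ℤ) (Spor.leechU : GolayPt → ℤ)) : M.L v ∈ pairCent z t :=
  mem_pairCent M htu (M.L_mem v) ((commute_t_iff M htu (Model.rel_refl _)).2 h)

theorem qBar_normal [Finite G] : (qBar M htu).Normal := by
  have : (M.Q.subgroupOf (pairCent z t)).Normal :=
    ⟨fun a ha x => M.hub.normalizes x (Model.commute_of_mem_C x.2.1) a ha⟩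
  exact this.map _ (eta_surjective M htu)

theorem card_qBar [Finite G] : Nat.card (qBar M htu) = 2 ^ 23 := by
  classical
  have htQ : t ∈ M.Q := M.rel_mem htu (M.L_mem _)
  obtain ⟨r, hr, hrt⟩ := M.hub.exists_not_commute (t_ne M htu).1 (t_ne M htu).2
  have hrt' : r * t * r⁻¹ = t * z :=
    (M.hub.comm r hr t htQ).resolve_left fun e => hrt (mul_inv_eq_iff_eq_mul.1 e).symm
  have hmove : ∀ a ∈ M.Q, ¬ Commute a t → Commute (r⁻¹ * a) t := by
    intro a ha han
    have e := (M.hub.comm a ha t htQ).resolve_left fun e => han (mul_inv_eq_iff_eq_mul.1 e)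
    refine mul_inv_eq_iff_eq_mul.1 ?_
    calc r⁻¹ * a * t * (r⁻¹ * a)⁻¹ = r⁻¹ * (a * t * a⁻¹) * r := by group
      _ = r⁻¹ * (r * t * r⁻¹) * r := by rw [e, hrt']
      _ = t := by group
  set K := M.Q.subgroupOf (pairCent z t) with hK
  have hbij : Function.Bijective (fun p : K × Bool =>
      (⟨(if p.2 then 1 else r) * ((p.1 : pairCent z t) : G), M.Q.mul_mem
        (by split_ifs; exacts [M.Q.one_mem, hr]) p.1.2⟩ : M.Q)) := by
    refine ⟨?_, fun a => ?_⟩
    · rintro ⟨a, i⟩ ⟨b, j⟩ h
      have h' : (if i then 1 else r) * ((a : pairCent z t) : G) = (if j then 1 else r) * ((b : pairCent z t) : G) :=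
        congrArg Subtype.val h
      have hc : ∀ c : K, Commute ((c : pairCent z t) : G) t := fun c =>
        Subgroup.mem_centralizer_singleton_iff.1 c.1.2.2
      have hij : i = j := by
        cases i <;> cases j
        · rfl
        · exfalso
          simp only [Bool.false_eq_true, if_false, if_true, one_mul] at h'
          apply hrt
          rw [eq_mul_inv_of_mul_eq h']
          exact ((hc b).mul_left (hc a).inv_left).symm
        · exfalso
          simp only [Bool.false_eq_true, if_false, if_true, one_mul] at h'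
          apply hrt
          rw [eq_mul_inv_of_mul_eq h'.symm]
          exact ((hc a).mul_left (hc b).inv_left).symm
        · rfl
      subst hij
      exact Prod.ext (Subtype.ext (Subtype.ext (mul_left_cancel h'))) rfl
    · by_cases hat : Commute (a : G) t
      · exact ⟨(⟨⟨a, mem_pairCent M htu a.2 hat⟩, a.2⟩, true), Subtype.ext (one_mul _)⟩
      · exact ⟨(⟨⟨r⁻¹ * a, mem_pairCent M htu (M.Q.mul_mem (M.Q.inv_mem hr) a.2) (hmove a a.2 hat)⟩,
          M.Q.mul_mem (M.Q.inv_mem hr) a.2⟩, false), Subtype.ext (mul_inv_cancel_left r _)⟩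
  have h24 := Nat.card_congr (Equiv.ofBijective _ hbij)
  rw [Nat.card_prod, Nat.card_eq_fintype_card (α := Bool), Fintype.card_bool, M.card_Q] at h24
  have h := card_eq_ker_mul_range ((eta M htu).comp K.subtype)
  rw [MonoidHom.range_comp, Subgroup.range_subtype] at h
  have hker : Nat.card ((eta M htu).comp K.subtype).ker = 2 := by
    rw [Nat.card_eq_two_iff]
    refine ⟨1, ⟨⟨⟨t, mem_pairCent M htu htQ (Commute.refl t)⟩, htQ⟩,
      (eta_eq_one M htu).2 (Or.inr rfl)⟩, fun e => (t_ne M htu).1 ?_, Set.eq_univ_of_forall fun a => ?_⟩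
    · exact (congrArg (fun a : ((eta M htu).comp K.subtype).ker => ((a.1 : pairCent z t) : G)) e).symm
    · rcases (eta_eq_one M htu).1 a.2 with e | e
      · exact Or.inl (Subtype.ext (Subtype.ext (Subtype.ext e)))
      · exact Or.inr (Subtype.ext (Subtype.ext (Subtype.ext e)))
  rw [hker] at h
  show Nat.card (K.map (eta M htu)) = 2 ^ 23
  omega

/-- The element `z̄` of `qBar`. -/
noncomputable def zeta : qBar M htu :=
  ⟨eta M htu ⟨z, mem_pairCent M htu M.hub.mem (M.hub.central t (M.rel_mem htu (M.L_mem _))).symm⟩,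
    ⟨_, M.hub.mem, rfl⟩⟩

theorem zeta_val : ((zeta M htu : Subgroup.centralizer
    ({zBar M htu} : Set (Subgroup.centralizer ({t} : Set G) ⧸
      (Subgroup.zpowers t).subgroupOf (Subgroup.centralizer ({t} : Set G))))) : _ ⧸ _) = zBar M htu := rfl

theorem zeta_ne : zeta M htu ≠ 1 := by
  intro e
  rcases (eta_eq_one M htu).1 (congrArg Subtype.val e) with h | h
  · exact M.hub.ne_one h
  · exact (t_ne M htu).2 h.symm

theorem qBar_elt (a : qBar M htu) : ∃ x : pairCent z t, (x : G) ∈ M.Q ∧ eta M htu x = a.1 :=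
  a.2.imp fun _ h => h

theorem mem_center_qBar [Finite G] {a : qBar M htu} :
    a ∈ Subgroup.center (qBar M htu) ↔ a = 1 ∨ a = zeta M htu := by
  constructor
  · intro ha
    obtain ⟨x, hx, hxa⟩ := qBar_elt M htu a
    have hxc : ∀ p ∈ M.Q, Commute p t → Commute (x : G) p := by
      intro p hp hpt
      have h := congrArg Subtype.val (Subgroup.mem_center_iff.1 ha
        ⟨eta M htu ⟨p, mem_pairCent M htu hp hpt⟩, _, hp, rfl⟩)
      simp only [Subgroup.coe_mul] at h
      rw [← hxa, ← map_mul, ← map_mul, eq_comm, eta_eq M htu] at h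
      simp only [Subgroup.coe_mul] at h
      rcases h with h | h
      · exact h
      · exfalso
        rcases M.hub.comm x hx p hp with e | e
        · rw [mul_inv_eq_iff_eq_mul.1 e, left_eq_mul] at h
          exact (t_ne M htu).1 h
        · rw [mul_inv_eq_iff_eq_mul.1 e, mul_assoc p z, ← (M.hub.central x hx).eq, ← mul_assoc,
            mul_right_inj] at h
          exact (t_ne M htu).2 h.symm
    have htQ : t ∈ M.Q := M.rel_mem htu (M.L_mem _)
    rcases LargeExtraspecial.mem_four M.zz (t_sq M htu) (M.hub.central t htQ).symm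
        (M.hub.centralizer_of_self htQ hx hxc) with e | e | e | e
    · exact Or.inl (Subtype.ext (hxa.symm.trans ((eta_eq_one M htu).2 (Or.inl e))))
    · exact Or.inr (Subtype.ext (hxa.symm.trans (congrArg _ (Subtype.ext e))))
    · exact Or.inl (Subtype.ext (hxa.symm.trans ((eta_eq_one M htu).2 (Or.inr e))))
    · exact Or.inr (Subtype.ext (hxa.symm.trans ((eta_eq M htu).2 (Or.inr e))))
  · rintro (rfl | rfl)
    · exact one_mem _
    · refine Subgroup.mem_center_iff.2 fun b => Subtype.ext (Subtype.ext ?_)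
      simp only [Subgroup.coe_mul, zeta_val]
      exact Subgroup.mem_centralizer_singleton_iff.1 b.1.2

theorem card_center_qBar [Finite G] : Nat.card (Subgroup.center (qBar M htu)) = 2 := by
  rw [Nat.card_eq_two_iff]
  refine ⟨1, ⟨zeta M htu, (mem_center_qBar M htu).2 (Or.inr rfl)⟩,
    fun e => zeta_ne M htu (congrArg Subtype.val e).symm, Set.eq_univ_of_forall fun a => ?_⟩
  exact ((mem_center_qBar M htu).1 a.2).imp (fun h => Subtype.ext h) (fun h => Subtype.ext h)

theorem mk_qBar_eq [Finite G] (a b : qBar M htu) :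
    (QuotientGroup.mk a : qBar M htu ⧸ Subgroup.center (qBar M htu)) = QuotientGroup.mk b ↔
      a = b ∨ a = b * zeta M htu := by
  rw [eq_comm, QuotientGroup.eq, mem_center_qBar, inv_mul_eq_one, inv_mul_eq_iff_eq_mul,
    eq_comm (a := b)]

theorem eta_of_rel {a b : pairCent z t} (ha : (a : G) ∈ M.Q) (hb : (b : G) ∈ M.Q)
    (h : Rel z (a : G) b) :
    (⟨eta M htu a, _, ha, rfl⟩ : qBar M htu) = ⟨eta M htu b, _, hb, rfl⟩ ∨
      (⟨eta M htu a, _, ha, rfl⟩ : qBar M htu) = ⟨eta M htu b, _, hb, rfl⟩ * zeta M htu := by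
  rcases h with e | e
  · exact Or.inl (Subtype.ext (congrArg (eta M htu) (Subtype.ext e)))
  · refine Or.inr (Subtype.ext ?_)
    show eta M htu a = eta M htu b * _
    rw [zeta, ← map_mul]
    exact congrArg (eta M htu) (Subtype.ext e)

theorem qBar_extraspecial [Finite G] : Cfsg.IsExtraspecial 2 (qBar M htu) := by
  have : Fact (Nat.Prime 2) := ⟨Nat.prime_two⟩
  have htQ : t ∈ M.Q := M.rel_mem htu (M.L_mem _)
  refine PGroup.isExtraspecial_of (IsPGroup.of_card (card_qBar M htu)) (card_center_qBar M htu) ?_ ?_ ?_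
  · intro htop
    obtain ⟨p₁, h1, p₂, h2, c1, c2, hne⟩ := M.hub.exists_noncommuting_pair (y := t)
      (by rw [M.card_Q]; norm_num) htQ (t_sq M htu)
    have ha : (⟨eta M htu ⟨p₁, mem_pairCent M htu h1 c1⟩, _, h1, rfl⟩ : qBar M htu) ∈
        Subgroup.center (qBar M htu) := htop ▸ Subgroup.mem_top _
    have h := congrArg Subtype.val (Subgroup.mem_center_iff.1 ha
      ⟨eta M htu ⟨p₂, mem_pairCent M htu h2 c2⟩, _, h2, rfl⟩)
    simp only [Subgroup.coe_mul] at h
    rw [← map_mul, ← map_mul, eta_eq M htu] at h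
    simp only [Subgroup.coe_mul] at h
    rcases h with h | h
    · exact hne h.symm
    · rcases M.hub.comm p₁ h1 p₂ h2 with e | e
      · exact hne (mul_inv_eq_iff_eq_mul.1 e)
      · rw [mul_inv_eq_iff_eq_mul.1 e, mul_assoc p₂ z, ← (M.hub.central p₁ h1).eq, mul_assoc,
          mul_assoc p₁ z, mul_right_inj, left_eq_mul, mul_eq_one_iff_eq_inv] at h
        exact (t_ne M htu).2 (by rw [h, inv_eq_of_mul_eq_one_right (t_sq M htu)])
  · intro a b
    obtain ⟨x, hx, hxa⟩ := qBar_elt M htu a
    obtain ⟨y, hy, hyb⟩ := qBar_elt M htu b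
    rw [commutatorElement_def, mem_center_qBar]
    have e : (((a * b * a⁻¹ * b⁻¹ : qBar M htu)) : Subgroup.centralizer
        ({zBar M htu} : Set (Subgroup.centralizer ({t} : Set G) ⧸
          (Subgroup.zpowers t).subgroupOf (Subgroup.centralizer ({t} : Set G))))) =
        eta M htu (x * y * x⁻¹ * y⁻¹) := by
      simp [map_mul, map_inv, hxa, hyb]
    rcases M.comm_cases hy hx with h | h
    · exact Or.inl (Subtype.ext (e.trans ((eta_eq_one M htu).2 (Or.inl h))))
    · exact Or.inr (Subtype.ext (e.trans (congrArg _ (Subtype.ext h))))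
  · intro a
    obtain ⟨x, hx, hxa⟩ := qBar_elt M htu a
    rw [mem_center_qBar, pow_two]
    have e : (((a * a : qBar M htu)) : Subgroup.centralizer
        ({zBar M htu} : Set (Subgroup.centralizer ({t} : Set G) ⧸
          (Subgroup.zpowers t).subgroupOf (Subgroup.centralizer ({t} : Set G))))) =
        eta M htu (x * x) := by
      simp [map_mul, hxa]
    rcases M.hub.sq_cases x hx with h | h
    · exact Or.inl (Subtype.ext (e.trans ((eta_eq_one M htu).2 (Or.inl h))))
    · exact Or.inr (Subtype.ext (e.trans (congrArg _ (Subtype.ext h))))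

/-- A normal subgroup whose image in the stabiliser of `u` is trivial lies in `qBar`. -/
theorem le_qBar [Finite G] {N : Subgroup (Subgroup.centralizer
    ({zBar M htu} : Set (Subgroup.centralizer ({t} : Set G) ⧸
      (Subgroup.zpowers t).subgroupOf (Subgroup.centralizer ({t} : Set G)))))}
    (hN : N.Normal)
    (h : ((N.comap (eta M htu)).map (toStabU M htu)).map stabU.subtype = ⊥ ∨
      IsPGroup 2 N ∨ ∀ x ∈ N, ∀ a ∈ qBar M htu, a * x = x * a) :
    N ≤ qBar M htu := by
  set F := ((N.comap (eta M htu)).map (toStabU M htu)).map stabU.subtype with hF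
  have hFu : F ≤ stabU := Subgroup.map_subtype_le _
  have hn : ∀ g ∈ stabU, ∀ f ∈ F, g * f * g⁻¹ ∈ F := by
    rintro g hg _ ⟨f, hf, rfl⟩
    exact ⟨⟨g, hg⟩ * f * ⟨g, hg⟩⁻¹,
      ((hN.comap _).map _ (toStabU_surjective M htu)).conj_mem f hf _, rfl⟩
  have hbot : F = ⊥ := by
    rcases h with h | h | h
    · exact h
    · refine stabU_normal_two_eq_bot ?_ hFu hn
      refine (IsPGroup.map ?_ _).map _
      have hk : IsPGroup 2 (eta M htu).ker := by
        refine (IsPGroup.of_card M.card_Q).of_injective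
          (MonoidHom.mk' (fun a => (⟨((a : pairCent z t) : G), ?_⟩ : M.Q)) fun a b => rfl) ?_
        · rcases (eta_eq_one M htu).1 a.2 with e | e <;> rw [e]
          · exact M.Q.one_mem
          · exact M.rel_mem htu (M.L_mem _)
        · intro a b e
          exact Subtype.ext (Subtype.ext (congrArg (fun q : M.Q => (q : G)) e))
      exact h.comap_of_ker_isPGroup _ hk
    · refine stabU_perp_trivial hFu hn ?_
      rintro _ ⟨_, ⟨x, hx, rfl⟩, rfl⟩ w hw
      have ha := h _ hx (eta M htu ⟨M.L w, L_mem_pairCent M htu hw⟩) ⟨_, M.L_mem w, rfl⟩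
      rw [← map_mul, ← map_mul, eta_eq M htu] at ha
      simp only [Subgroup.coe_mul] at ha
      have hact := toStabU_act M htu x (Model.rel_refl (M.L w))
      rcases ha with e | e
      · rw [← e, mul_inv_cancel_right] at hact
        exact Or.inl (M.L_congr.1 hact).symm
      · have htQ : t ∈ M.Q := M.rel_mem htu (M.L_mem _)
        have hxt : Commute (x : G) t := Subgroup.mem_centralizer_singleton_iff.1 x.2.2
        have hwt : Commute (M.L w) t := (commute_t_iff M htu (Model.rel_refl _)).2 hw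
        have e' : (x : G) * M.L w * (x : G)⁻¹ = M.L w * t := by
          have e2 : (x : G) * M.L w = M.L w * (x : G) * t⁻¹ := eq_mul_inv_of_mul_eq e.symm
          rw [inv_eq_of_mul_eq_one_right (t_sq M htu)] at e2
          rw [e2, mul_assoc (M.L w), hxt.eq, ← mul_assoc, mul_inv_cancel_right]
        rw [e'] at hact
        exact Or.inr (M.L_congr.1 (M.rel_trans (M.rel_symm hact)
          (M.rel_trans (M.rel_mul (M.L_mem _) (Model.rel_refl (M.L w)) htu)
            (M.rel_symm (M.L_add _ _)))))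
  intro y hy
  obtain ⟨x, rfl⟩ := eta_surjective M htu y
  have hx1 : toStabU M htu x = 1 := by
    have : (toStabU M htu x : Co0) ∈ F := ⟨_, ⟨x, hy, rfl⟩, rfl⟩
    rw [hbot, Subgroup.mem_bot] at this
    exact Subtype.ext this
  have : x ∈ M.Q.subgroupOf (pairCent z t) := toStabU_ker M htu ▸ MonoidHom.mem_ker.2 hx1
  exact ⟨x, this, rfl⟩

theorem qBar_genFitting [Finite G] : generalizedFittingSubgroup (Subgroup.centralizer
    ({zBar M htu} : Set (Subgroup.centralizer ({t} : Set G) ⧸
      (Subgroup.zpowers t).subgroupOf (Subgroup.centralizer ({t} : Set G))))) = qBar M htu := by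
  have hQn := qBar_normal M htu
  have : Fact (Nat.Prime 2) := ⟨Nat.prime_two⟩
  have hQ2 : IsPGroup 2 (qBar M htu) := IsPGroup.of_card (card_qBar M htu)
  have hQnil : Group.IsNilpotent (qBar M htu) := hQ2.isNilpotent
  have hQF := Components.le_fittingSubgroup (N := qBar M htu) hQn
  refine le_antisymm (sup_le ?_ ?_) (hQF.trans le_sup_right)
  · have hln : (layer (Subgroup.centralizer
        ({zBar M htu} : Set (Subgroup.centralizer ({t} : Set G) ⧸
          (Subgroup.zpowers t).subgroupOf (Subgroup.centralizer ({t} : Set G)))))).Normal := inferInstance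
    refine le_qBar M htu hln (Or.inr (Or.inr fun x hx a ha => ?_))
    have h := (Subgroup.commutator_eq_bot_iff_le_centralizer.1 Components.commutator_layer_fittingSubgroup) hx
    exact (h a (hQF ha))
  · rw [Components.fittingSubgroup_eq_iSup_pCore]
    refine iSup_le fun p => ?_
    have : Fact (Nat.Prime (p : ℕ)) := ⟨Nat.prime_of_mem_primeFactors p.2⟩
    have hp2 := Components.isPGroup_pCore' (G := Subgroup.centralizer
        ({zBar M htu} : Set (Subgroup.centralizer ({t} : Set G) ⧸
          (Subgroup.zpowers t).subgroupOf (Subgroup.centralizer ({t} : Set G))))) (p : ℕ)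
    by_cases h : (p : ℕ) = 2
    · refine le_qBar M htu (Components.pCore_normal' _) (Or.inr (Or.inl ?_))
      rw [h] at hp2 ⊢
      exact hp2
    · refine le_qBar M htu (Components.pCore_normal' _) (Or.inr (Or.inr fun x hx a ha => ?_))
      exact PCore.commute_of_normal_of_disjoint hQn (Components.pCore_normal' _)
        (IsPGroup.disjoint_of_ne 2 (p : ℕ) (Ne.symm h) _ _ hQ2 hp2) ha hx

/-- `stabU` is `Co2`. -/
def stabUEquiv : stabU ≃* Spor.Co2 where
  toFun g := ⟨(g : Co0).1, (g : Co0).2, g.2⟩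
  invFun g := ⟨⟨g.1, g.2.1⟩, g.2.2⟩
  left_inv _ := rfl
  right_inv _ := rfl
  map_mul' _ _ := rfl

theorem babyMonster_of_partner [Finite G] (m : G) (hm : m * t * m⁻¹ = t)
    (hmQ : m * z * m⁻¹ ∈ M.Q) (hmne : m * z * m⁻¹ ≠ z) :
    Cfsg.IsOfBabyMonsterType (↥(Subgroup.centralizer ({t} : Set G)) ⧸
      (Subgroup.zpowers t).subgroupOf (Subgroup.centralizer ({t} : Set G))) := by
  have hQn := qBar_normal M htu
  have htQ : t ∈ M.Q := M.rel_mem htu (M.L_mem _)
  have hzt : Commute z t := (M.hub.central t htQ).symm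
  have hmt : m ∈ Subgroup.centralizer ({t} : Set G) :=
    Subgroup.mem_centralizer_singleton_iff.2 (mul_inv_eq_iff_eq_mul.1 hm)
  have hst : Commute (m * z * m⁻¹) t := by
    have := hzt.map (MulAut.conj m).toMonoidHom
    simp only [MulEquiv.coe_toMonoidHom, MulAut.conj_apply, hm] at this
    exact this
  set s : pairCent z t := ⟨m * z * m⁻¹, mem_pairCent M htu hmQ hst⟩ with hs
  refine ⟨zBar M htu, qBar M htu, hQn, ⟨?_, qBar_genFitting M htu, qBar_extraspecial M htu,
    by rw [card_qBar], QuotientGroup.mk ⟨m, hmt⟩, ⟨(eta M htu s).2, ⟨s, hmQ, rfl⟩⟩, fun e => ?_⟩, ?_⟩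
  · refine orderOf_eq_prime ?_ fun e => ?_
    · rw [zBar, pow_two, ← QuotientGroup.mk_mul, mk_eq_one M htu]
      exact Or.inl M.zz
    · rcases (mk_eq_one M htu).1 e with h | h
      · exact M.hub.ne_one h
      · exact (t_ne M htu).2 h.symm
  · have h : eta M htu s = eta M htu ⟨z, mem_pairCent M htu M.hub.mem hzt⟩ := Subtype.ext e
    rcases (eta_eq M htu).1 h with h | h
    · exact hmne h
    · have h32 : M.IsType 32 (m * z * m⁻¹) := by
        refine ⟨Spor.leechU, by decide +kernel, M.rel_trans ?_ htu⟩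
        exact Or.inr (h.trans hzt.eq)
      exact M.type_exclusive h32 (M.type64_of_conj hmQ (isConj_iff.2 ⟨m, rfl⟩) hmne)
  -- the identification with Co2
  set ν := (QuotientGroup.mk' (qBar M htu)).comp (eta M htu) with hν
  have hνs : Function.Surjective ν :=
    (QuotientGroup.mk'_surjective _).comp (eta_surjective M htu)
  have hνk : ν.ker = (toStabU M htu).ker := by
    rw [toStabU_ker, ← comap_qBar M htu, hν, ← MonoidHom.comap_ker, QuotientGroup.ker_mk']
  set e := ((QuotientGroup.quotientKerEquivOfSurjective ν hνs).symm.trans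
    ((QuotientGroup.quotientMulEquivOfEq hνk).trans
      (QuotientGroup.quotientKerEquivOfSurjective _ (toStabU_surjective M htu)))).trans stabUEquiv with he
  have hev : ∀ x, e (QuotientGroup.mk (eta M htu x)) = stabUEquiv (toStabU M htu x) := by
    intro x
    have hx : (QuotientGroup.quotientKerEquivOfSurjective ν hνs).symm (QuotientGroup.mk (eta M htu x)) =
        QuotientGroup.mk x := by
      rw [MulEquiv.symm_apply_eq]; rfl
    rw [he, MulEquiv.trans_apply, MulEquiv.trans_apply, hx]
    rfl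
  have hdot : ∀ x : leechPerpU, 16 ∣ dotInt ((x : leechLattice) : GolayPt → ℤ) (Spor.leechU : GolayPt → ℤ) :=
    fun x => x.2
  let lift : leechPerpU → pairCent z t := fun x => ⟨M.L x, L_mem_pairCent M htu (hdot x)⟩
  let ψ : leechPerpU → qBar M htu ⧸ Subgroup.center (qBar M htu) := fun x =>
    QuotientGroup.mk ⟨eta M htu (lift x), _, M.L_mem _, rfl⟩
  refine ⟨e, ψ, fun x y => ?_, fun a => ?_, fun x => ?_, fun h g hg x y hxy q hq => ?_⟩
  · show QuotientGroup.mk _ = QuotientGroup.mk _ * QuotientGroup.mk _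
    rw [← QuotientGroup.mk_mul, mk_qBar_eq]
    convert eta_of_rel M htu (a := lift (x + y)) (b := lift x * lift y) (M.L_mem _)
      (M.Q.mul_mem (M.L_mem _) (M.L_mem _)) (M.L_add _ _) using 3 <;>
      exact Subtype.ext (map_mul (eta M htu) _ _).symm
  · obtain ⟨⟨_, b, hb, rfl⟩, rfl⟩ := QuotientGroup.mk_surjective a
    obtain ⟨v, hv⟩ := M.L_surj b hb
    refine ⟨⟨v, (commute_t_iff M htu hv).1 (Subgroup.mem_centralizer_singleton_iff.1 b.2.2)⟩, ?_⟩
    show QuotientGroup.mk _ = QuotientGroup.mk _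
    rw [mk_qBar_eq]
    exact eta_of_rel M htu (M.L_mem _) hb (M.rel_symm hv)
  · show (QuotientGroup.mk _ = 1) ↔ _
    rw [← QuotientGroup.mk_one, mk_qBar_eq]
    refine (or_congr Subtype.ext_iff Subtype.ext_iff).trans ?_
    show eta M htu (lift x) = 1 ∨ eta M htu (lift x) = 1 * eta M htu ⟨z, _⟩ ↔ _
    rw [one_mul, eta_eq_one M htu, eta_eq M htu]
    show (M.L x = 1 ∨ M.L x = t) ∨ (M.L x = z ∨ M.L x = z * t) ↔ _
    constructor
    · intro h
      have : Rel z (M.L x) 1 ∨ Rel z (M.L x) t := by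
        rcases h with (h | h) | h | h
        · exact Or.inl (Or.inl h)
        · exact Or.inr (Or.inl h)
        · exact Or.inl (Or.inr (h.trans (one_mul z).symm))
        · exact Or.inr (Or.inr (h.trans hzt.eq))
      rcases this with h | h
      · exact Or.inl ((M.L_ker _).1 h)
      · obtain ⟨w, hw⟩ := clsV_eq_iff.1 (M.L_congr.1 (M.rel_trans h htu))
        exact Or.inr ⟨w, by rw [← hw, add_sub_cancel]⟩
    · rintro (⟨w, hw⟩ | ⟨w, hw⟩)
      · rcases Model.rel_one.1 ((M.L_ker _).2 ⟨w, hw⟩) with h | h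
        · exact Or.inl (Or.inl h)
        · exact Or.inr (Or.inl h)
      · rcases M.rel_trans ((M.L_congr (v := (x : leechLattice)) (w := Spor.leechU)).2
          (clsV_eq_iff.2 ⟨w, by rw [hw]; abel⟩)) (M.rel_symm htu) with h | h
        · exact Or.inl (Or.inr h)
        · exact Or.inr (Or.inr (h.trans hzt.eq.symm))
  · obtain ⟨k, rfl⟩ := eta_surjective M htu h
    rw [hev] at hg
    have hact := toStabU_act M htu k (Model.rel_refl (M.L x))
    have hgk : ((toStabU M htu k : Co0) • (x : leechLattice)) = (y : leechLattice) := by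
      rw [← hxy, ← hg]; rfl
    rw [hgk] at hact
    show QuotientGroup.mk _ = QuotientGroup.mk _
    rw [mk_qBar_eq]
    have hkQ : (k : G) * M.L x * (k : G)⁻¹ ∈ M.Q :=
      M.hub.normalizes k (Model.commute_of_mem_C k.2.1) _ (M.L_mem _)
    have h1 := eta_of_rel M htu (a := lift y) (b := k * lift x * k⁻¹) (M.L_mem _) hkQ (M.rel_symm hact)
    have hζk : eta M htu k * (zeta M htu).1 * (eta M htu k)⁻¹ = (zeta M htu).1 := by
      rw [mul_inv_eq_iff_eq_mul]
      exact Subtype.ext (by
        simp only [Subgroup.coe_mul, zeta_val]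
        exact Subgroup.mem_centralizer_singleton_iff.1 (eta M htu k).2)
    have hζ2 : zeta M htu * zeta M htu = 1 := Subtype.ext (by
      show eta M htu _ * eta M htu _ = 1
      rw [← map_mul, eta_eq_one M htu]
      exact Or.inl M.zz)
    rcases (mk_qBar_eq M htu _ _).1 hq with hq' | hq'
    · rcases h1 with e1 | e1 <;> [left; right] <;>
        · rw [e1]
          apply Subtype.ext
          have := congrArg Subtype.val hq'
          simp only [Subgroup.coe_mul] at this ⊢
          simp [← this, map_mul, map_inv]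
    · rcases h1 with e1 | e1 <;> [right; left] <;>
        · rw [e1]
          apply Subtype.ext
          have := congrArg Subtype.val hq'
          have h2 := congrArg Subtype.val hζ2
          simp only [Subgroup.coe_mul] at this h2 ⊢
          have key : ∀ c, eta M htu k * (c * (zeta M htu).1) * (eta M htu k)⁻¹ =
              eta M htu k * c * (eta M htu k)⁻¹ * (zeta M htu).1 := fun c => by
            conv_rhs => rw [← hζk]
            group
          simp only [map_mul, map_inv, this, key]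
          try simp [mul_assoc, h2]

end

theorem babyMonster_type {G : Type*} [Group G] [Finite G] {z : G}
    {Q : Subgroup (Subgroup.centralizer ({z} : Set G))} [Q.Normal] (hM : Cfsg.IsOfMonsterType z Q) {t : G}
    (htQ : ∃ htc : t ∈ Subgroup.centralizer ({z} : Set G),
      (⟨t, htc⟩ : Subgroup.centralizer ({z} : Set G)) ∈ Q)
    (ht2 : orderOf t = 2) (ht : ¬ IsConj z t)
    [((Subgroup.zpowers t).subgroupOf (Subgroup.centralizer ({t} : Set G))).Normal] :
    Cfsg.IsOfBabyMonsterType (↥(Subgroup.centralizer ({t} : Set G)) ⧸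
      (Subgroup.zpowers t).subgroupOf (Subgroup.centralizer ({t} : Set G))) := by
  obtain ⟨M, hQ⟩ := exists_model hM
  have hex := hQ.symm ▸ exists_conj_mem hM.1
  have h32 := M.type32_of_not_conj hex (hQ ▸ mem_map_centralizer htQ) ht2 ht
  obtain ⟨m, hm, hmQ, hmne⟩ := M.exists_partner hex h32
  obtain ⟨v, hv, hvt⟩ := h32
  obtain ⟨k, hk⟩ := co0_transitive Spor.leechU v 32 (Or.inl rfl) (by decide +kernel) hv
  exact babyMonster_of_partner (M.twist k) (by rw [Model.twist_L, hk]; exact hvt) m hm hmQ hmne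

end Cfsg.Agent.MonsterType
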