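/-
The centraliser of `z` and a conjugate of `z` in `Q`, modulo `Q`: `2^11 : M24`.
-/
import Cfsg.Agent.Lib.MonsterType.Pair

set_option autoImplicit false

namespace Cfsg.Agent.MonsterType

open Cfsg Leech

theorem permHom_eq_signElt {σ : M24} {c : GolayPt → ZMod 2} {hc : c ∈ golayCode}
    (h : permHom σ = signElt c hc) : σ = 1 := by
  refine Subtype.ext (Equiv.ext fun i => ?_)
  by_contra hne
  have h1 := congrArg (fun g : Co0 =>
    ((g • eight i : leechLattice) : GolayPt → ℤ) ((σ : Equiv.Perm GolayPt) i)) h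
  change (eight i : GolayPt → ℤ) ((σ : Equiv.Perm GolayPt).symm ((σ : Equiv.Perm GolayPt) i)) = _ at h1
  rw [Equiv.symm_apply_apply, eight_val, Pi.single_eq_same, signElt_eight] at h1
  change ((σ : Equiv.Perm GolayPt) i) ≠ i at hne
  split_ifs at h1 <;> simp [eight_val, Pi.single_eq_of_ne hne] at h1

/-- A sign change congruent to a permutation modulo the centre comes from the trivial permutation. -/
theorem toCo1_perm_sign {σ : M24} {a : Co0} (ha : a ∈ signGrp) (h : toCo1 (permHom σ) = toCo1 a) :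
    σ = 1 := by
  have hn : negElt ∈ signGrp := ⟨1, one_mem_code, rfl⟩
  have hc : a⁻¹ * permHom σ ∈ Subgroup.center Co0 := by
    rw [← QuotientGroup.eq_one_iff]
    show toCo1 (a⁻¹ * permHom σ) = 1
    rw [map_mul, map_inv, h, inv_mul_cancel]
  have : permHom σ ∈ signGrp := by
    rcases center_eq hc with e | e
    · rw [← inv_mul_eq_one.1 e]; exact ha
    · rw [inv_mul_eq_iff_eq_mul.1 e]; exact mul_mem ha hn
  obtain ⟨c, hc', e⟩ := this
  exact permHom_eq_signElt e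

theorem mk_permHom_injective : Function.Injective (toCo1.comp permHom) := by
  refine (injective_iff_map_eq_one _).2 fun σ hσ => toCo1_perm_sign (one_mem signGrp) ?_
  rw [map_one]; exact hσ

theorem co1_sign_inf_perm :
    signGrp.map toCo1 ⊓ permHom.range.map toCo1 = ⊥ := by
  rw [eq_bot_iff]
  rintro x ⟨⟨a, ha, rfl⟩, ⟨_, ⟨σ, rfl⟩, hσ⟩⟩
  rw [Subgroup.mem_bot, ← hσ, toCo1_perm_sign ha hσ, map_one, map_one]

theorem co1_sign_sup_perm :
    signGrp.map toCo1 ⊔ permHom.range.map toCo1 = monGrp.map toCo1 := by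
  rw [← Subgroup.map_sup]
  congr 1
  refine le_antisymm (sup_le signGrp_le ?_) fun g hg => ?_
  · rintro _ ⟨σ, rfl⟩; exact permHom_mem_monGrp σ
  · obtain ⟨σ, c, hc, rfl⟩ := mono_decomp hg
    exact mul_mem (Subgroup.mem_sup_left ⟨c, hc, rfl⟩) (Subgroup.mem_sup_right ⟨σ, rfl⟩)

theorem co1_sign_elementary : IsElementaryAbelian 2 (signGrp.map toCo1) := by
  refine ⟨⟨⟨?_⟩⟩, ?_⟩
  · rintro ⟨_, a, ha, rfl⟩ ⟨_, b, hb, rfl⟩
    refine Subtype.ext ?_
    show toCo1 a * toCo1 b = toCo1 b * toCo1 a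
    rw [← map_mul, ← map_mul]
    exact congrArg toCo1 (congrArg Subtype.val (signGrp_comm.is_comm.comm ⟨a, ha⟩ ⟨b, hb⟩))
  · rintro _ ⟨a, ha, rfl⟩
    rw [← map_pow, pow_two, signElt_sq ha, map_one]

theorem co1_sign_normal {x y : Spor.Co1} (hx : x ∈ monGrp.map toCo1) (hy : y ∈ signGrp.map toCo1) :
    x * y * x⁻¹ ∈ signGrp.map toCo1 := by
  obtain ⟨g, hg, rfl⟩ := hx
  obtain ⟨a, ha, rfl⟩ := hy
  exact ⟨_, mono_conj_signGrp hg ha, by simp⟩

variable {G : Type*} [Group G] [Finite G] {z : G}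

theorem frame_stabilizer {Q : Subgroup (Subgroup.centralizer ({z} : Set G))} [Q.Normal]
    (hM : Cfsg.IsOfMonsterType z Q) {s : G}
    (hsQ : ∃ hsc : s ∈ Subgroup.centralizer ({z} : Set G),
      (⟨s, hsc⟩ : Subgroup.centralizer ({z} : Set G)) ∈ Q)
    (hs : IsConj z s) (hs1 : s ≠ z) (g : G) (hg : g * z * g⁻¹ = s)
    (X E : Subgroup ((Subgroup.centralizer ({z} : Set G)) ⧸ Q))
    (hX : X = ((Subgroup.centralizer ({z} : Set G) ⊓ Subgroup.centralizer ({s} : Set G)).subgroupOf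
      (Subgroup.centralizer ({z} : Set G))).map (QuotientGroup.mk' Q))
    (hE : E = (((Q.map (Subgroup.centralizer ({z} : Set G)).subtype).map (MulAut.conj g).toMonoidHom ⊓
      Subgroup.centralizer ({z} : Set G)).subgroupOf (Subgroup.centralizer ({z} : Set G))).map
      (QuotientGroup.mk' Q)) :
    E ≤ X ∧ (∀ x ∈ X, ∀ y ∈ E, x * y * x⁻¹ ∈ E) ∧ Cfsg.IsElementaryAbelian 2 E ∧
      Nat.card E = 2 ^ 11 ∧ ∃ K : Subgroup ((Subgroup.centralizer ({z} : Set G)) ⧸ Q),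
        K ≤ X ∧ E ⊓ K = ⊥ ∧ E ⊔ K = X ∧ Nonempty (K ≃* Cfsg.M24) := by
  obtain ⟨hS, e, ψ, hψ⟩ := hM
  set M := Model.ofData hS e ψ hψ with hMdef
  subst hg
  obtain ⟨v, hv, hvs⟩ := M.type64_of_conj (mem_map_centralizer hsQ) hs hs1
  obtain ⟨k, hk⟩ := co0_transitive (eight none) v 64 (by norm_num) (sqNorm_eight none) hv
  set M' := M.twist k with hM'
  have hv' : Rel z (g * z * g⁻¹) (M'.L (eight none)) := by
    rw [hM', Model.twist_L, hk]; exact hvs
  have h1 : g * z * g⁻¹ ≠ 1 := fun e' => M.hub.ne_one (conj_eq_one_iff.1 e')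
  obtain ⟨hEimg, hEcard, -⟩ := M'.std_pair hs1 hv'
  set θ : (Subgroup.centralizer ({z} : Set G)) ⧸ Q ≃* Spor.Co1 :=
    e.trans (MulAut.conj (QuotientGroup.mk k : Spor.Co1)⁻¹) with hθ
  have hπ : M'.π = θ.toMonoidHom.comp (QuotientGroup.mk' Q) := rfl
  have hEθ : E.map θ.toMonoidHom = signGrp.map toCo1 := by
    rw [hE, Subgroup.map_map, ← hπ, ← hEimg]
    rfl
  have hXθ : X.map θ.toMonoidHom = monGrp.map toCo1 := by
    rw [hX, Subgroup.map_map, ← hπ]
    refine le_antisymm ?_ ?_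
    · rintro _ ⟨h, hh, rfl⟩
      obtain ⟨g0, hg0⟩ := QuotientGroup.mk_surjective (M'.π h)
      exact ⟨g0, mem_monGrp.2 (fixesStd_iff.2 (M'.cls_of_commute hv' hg0
        (Subgroup.mem_centralizer_singleton_iff.1 hh.2))), hg0⟩
    · rintro _ ⟨g0, hg0, rfl⟩
      obtain ⟨h, hh, hhs⟩ := M'.exists_lift hv' h1 hs1 (g := g0)
        (fixesStd_iff.1 (mem_monGrp.1 hg0))
      exact ⟨h, ⟨h.2, Subgroup.mem_centralizer_singleton_iff.2 hhs.eq⟩, hh.symm⟩
  set χ := θ.symm.toMonoidHom with hχ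
  have hback : ∀ H : Subgroup ((Subgroup.centralizer ({z} : Set G)) ⧸ Q),
      (H.map θ.toMonoidHom).map χ = H := fun H => by
    rw [Subgroup.map_map, show χ.comp θ.toMonoidHom = MonoidHom.id _ from
      MonoidHom.ext fun x => θ.symm_apply_apply x, Subgroup.map_id]
  have hE' : E = (signGrp.map toCo1).map χ := by rw [← hEθ, hback]
  have hX' : X = (monGrp.map toCo1).map χ := by rw [← hXθ, hback]
  have hχi : Function.Injective χ := θ.symm.injective
  have hcard : Nat.card E = 2 ^ 11 := by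
    rw [hE', Subgroup.card_map_of_injective hχi, ← hEimg, hEcard]
  subst hE' hX'
  refine ⟨Subgroup.map_mono (Subgroup.map_mono signGrp_le), ?_, ?_, hcard,
    (permHom.range.map toCo1).map χ, ?_, ?_, ?_, ?_⟩
  · rintro _ ⟨x, hx, rfl⟩ _ ⟨y, hy, rfl⟩
    exact ⟨x * y * x⁻¹, co1_sign_normal hx hy, by simp⟩
  · refine ⟨⟨⟨?_⟩⟩, ?_⟩
    · rintro ⟨_, a, ha, rfl⟩ ⟨_, b, hb, rfl⟩
      refine Subtype.ext ?_
      show χ a * χ b = χ b * χ a
      rw [← map_mul, ← map_mul]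
      exact congrArg χ (congrArg Subtype.val (co1_sign_elementary.1.is_comm.comm ⟨a, ha⟩ ⟨b, hb⟩))
    · rintro _ ⟨a, ha, rfl⟩
      rw [← map_pow, co1_sign_elementary.2 a ha, map_one]
  · rw [← co1_sign_sup_perm]; exact Subgroup.map_mono le_sup_right
  · rw [← Subgroup.map_inf _ _ _ hχi, co1_sign_inf_perm, Subgroup.map_bot]
  · rw [← Subgroup.map_sup, co1_sign_sup_perm]
  · rw [Subgroup.map_map, ← MonoidHom.range_comp]
    exact ⟨(MonoidHom.ofInjective (f := (χ.comp toCo1).comp permHom) (hχi.comp mk_permHom_injective)).symm⟩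

end Cfsg.Agent.MonsterType
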